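import Mathlib
import Cfsg.Agent.FH.SG

/-! Towers of `p`-subgroups realizing the Fitting height, and minimal towers. -/

set_option autoImplicit false

namespace Cfsg.Agent.FH
open Cfsg.Agent.FT Cfsg.Agent.PLocal.CommMod Subgroup
open scoped commutatorElement

universe u

variable {G : Type u} [Group G]

/-- The kernels of the successive actions in a tower (level `0` is the top). -/
def cN (T : ℕ → Subgroup G) (N : Subgroup G) : ℕ → Subgroup G
  | 0 => T 0 ⊓ N
  | k + 1 => T (k + 1) ⊓ centMod (T k) (cN T N k)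

theorem cN_le (T : ℕ → Subgroup G) (N : Subgroup G) : ∀ k, cN T N k ≤ T k
  | 0 => inf_le_left
  | _ + 1 => inf_le_left

theorem norm_cN {T : ℕ → Subgroup G} {N B : Subgroup G} (hN : B ≤ 𝒩(N)) :
    ∀ k, (∀ m ≤ k, B ≤ 𝒩(T m)) → B ≤ 𝒩(cN T N k)
  | 0, h => norm_inf (h 0 le_rfl) hN
  | k + 1, h => norm_inf (h _ le_rfl)
    (norm_centMod (h k k.le_succ) (norm_cN hN k fun m hm => h m (hm.trans k.le_succ)))

theorem centMod_mono' {Y N N' B : Subgroup G} (h : N ≤ N') (hB : B ≤ 𝒩(N')) :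
    B ⊓ centMod Y N ≤ B ⊓ centMod Y N' :=
  le_inf inf_le_left (le_centMod.mpr ⟨inf_le_left.trans hB,
    ((commutator_mono inf_le_right le_rfl).trans (commutator_centMod_le Y N)).trans h⟩)

/-- An `A`-invariant tower of height `h + 1` in `K`. -/
structure Tw (K A : Subgroup G) (h : ℕ) (p : ℕ → ℕ) (T : ℕ → Subgroup G) : Prop where
  prime : ∀ k, (p k).Prime
  pgrp : ∀ k, IsPGroup (p k) (T k)
  le : ∀ k, T k ≤ K
  inv : ∀ k, A ≤ 𝒩(T k)
  norm : ∀ k m, k ≤ m → T m ≤ 𝒩(T k)
  ne : ∀ k < h, p k ≠ p (k + 1)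
  bot : ∀ k, h < k → T k = ⊥

theorem Tw.le_cN {K A N : Subgroup G} {h : ℕ} {p : ℕ → ℕ} {T : ℕ → Subgroup G} (t : Tw K A h p T)
    (hN : K ≤ 𝒩(N)) {k m : ℕ} (hkm : k ≤ m) (hk : T k ≤ cN T N k) : T m ≤ cN T N m := by
  induction m, hkm using Nat.le_induction with
  | base => exact hk
  | succ m _ ih =>
    exact le_inf le_rfl (le_centMod.mpr ⟨norm_cN ((t.le _).trans hN) m fun i hi =>
      t.norm i _ (hi.trans m.le_succ), (comm_le_right (t.norm m _ m.le_succ)).trans ih⟩)

variable [Finite G]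

theorem le_of_le_sup_der {p : ℕ} (hp : p.Prime) {H K : Subgroup G} (hH : IsPGroup p H) (hK : K ≤ H)
    (h : H ≤ K ⊔ ⁅H, H⁆) : H ≤ K := by
  have := Fact.mk hp
  by_contra hne
  obtain ⟨N, hKN, ⟨hN, hmax⟩⟩ := exists_maximal_ge_of_wellFoundedGT (fun N : Subgroup G => N < H)
    K (lt_of_le_not_ge hK hne)
  have hn : H ≤ 𝒩(N) := by
    have h1 := Solv.lt_inf_normalizer_of_isNilpotent hH.isNilpotent hN
    by_contra h3
    exact h1.not_ge (hmax (inf_lt_left.mpr h3) h1.le)
  obtain ⟨l, N₁, h1, h2, h3, -⟩ := exists_chief (solv_pgroup hp hH) le_rfl (le_norm_self H) hn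
    hN.not_ge
  have h4 : N ≤ N₁ := (le_inf hN.le le_rfl).trans h2
  exact h3 (h.trans (sup_le (hKN.trans h4) h1.der))

theorem comm_le_of_le_der_sup {p : ℕ} (hp : p.Prime) {T C B : Subgroup G} (hT : IsPGroup p T)
    (hC : C ≤ T) (hTC : T ≤ 𝒩(C)) (hBT : B ≤ 𝒩(T)) (hBC : B ≤ 𝒩(C))
    (hcop : (Nat.card B).Coprime (Nat.card T)) (h : ⁅T, B⁆ ≤ ⁅T, T⁆ ⊔ C) : ⁅T, B⁆ ≤ C := by
  have h1 := Solv.coprime_commutator_sup_centralizer B T hBT hcop (Or.inr (solv_pgroup hp hT))
  have h2 : T ≤ (T ⊓ 𝒞(B)) ⊔ C := le_of_le_sup_der hp hT (sup_le inf_le_left hC)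
    (h1.ge.trans (sup_le (h.trans (sup_le le_sup_right (le_sup_right.trans le_sup_left)))
      (le_sup_left.trans le_sup_left)))
  exact (commutator_mono h2 le_rfl).trans (comm_sup_le hBC (inf_le_left.trans hTC) le_rfl
    ((comm_eq_bot_iff.mpr inf_le_right).le.trans bot_le))

theorem exists_tw {A : Subgroup G} (h : ℕ) : ∀ K N : Subgroup G, Group.IsSolvable K → A ≤ 𝒩(K) →
    (Nat.card A).Coprime (Nat.card K) → K ⊔ A ≤ 𝒩(N) → ¬ resN h K ≤ N →
    ∃ p T, Tw K A h p T ∧ T 0 ≤ resN h K ∧ ¬ T h ≤ cN T N h := by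
  induction h with
  | zero =>
    intro K N hs hA hcop _ hne
    obtain ⟨p, P, h1, h2, h3, h4, h5⟩ := exists_inv_syl hA hcop (Or.inr hs) hne
    refine ⟨fun _ => p, fun k => Nat.casesOn k P fun _ => ⊥, ⟨fun _ => h1, ?_, ?_, ?_, ?_, by simp,
      ?_⟩, h3, fun h => h5 (h.trans inf_le_right)⟩
    · rintro (_ | k); exacts [h2, IsPGroup.of_bot]
    · rintro (_ | k); exacts [h3, bot_le]
    · rintro (_ | k); exacts [h4, le_top.trans norm_bot.ge]
    · rintro k (_ | m) hk
      · rw [Nat.le_zero.mp hk]; exact le_norm_self _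
      · exact bot_le
    · rintro (_ | k) hk; exacts [absurd hk (lt_irrefl 0), rfl]
  | succ h ih =>
    intro K N hs hA hcop hN hne
    rw [resN_succ] at hne ⊢
    set Y := resN h K
    have hYK : Y ≤ K := resN_le h K
    have hLK : K ⊔ A ≤ 𝒩(K) := sup_le (le_norm_self K) hA
    obtain ⟨l, N₁, h1, h2, h3, h4⟩ := chief_res (isSolvable_of_le hYK hs) (hYK.trans le_sup_left)
      (norm_resN h hLK) hN hne
    have := Fact.mk h1.prime
    have hXK := (res_le Y).trans hYK
    obtain ⟨S, hS⟩ := Solv.exists_invariant_sylow A (res Y) (le_sup_right.trans h1.LV)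
      (cop_le hcop le_rfl hXK) (Or.inr (isSolvable_of_le hXK hs)) l
    have hS' := B12.syl_map S
    set S' := (S : Subgroup (res Y)).map (res Y).subtype
    have hK : K ≤ res Y ⊔ K ⊓ 𝒩(S') := fun a ha => by
      obtain ⟨k, hk, h⟩ := Solv.sylow_frattini_ambient S (h1.LV (mem_sup_left ha))
      rw [← mul_inv_cancel_left k a]
      exact mul_mem_sup hk ⟨K.mul_mem (K.inv_mem (hXK hk)) ha, h⟩
    have hC := h1.norm_cm
    have hXC : res Y ≤ centMod (res Y) N₁ := le_centMod.mpr ⟨h1.norm, h1.der⟩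
    obtain ⟨p, T, t, t0, tn⟩ := ih (K ⊓ 𝒩(S')) (centMod (res Y) N₁) (isSolvable_of_le inf_le_left hs)
      (norm_inf hA (norm_norm hS)) (cop_le hcop le_rfl inf_le_left)
      ((sup_le_sup_right inf_le_left A).trans hC) fun hc => h3 ((le_centMod' (hYK.trans
        (le_sup_left.trans h1.LN))).mp ((resN_le_sup h (hXK.trans le_sup_left) h1.LV le_sup_left
          (inf_le_left.trans le_sup_left) hK).trans (sup_le hXC hc)))
    have hTK := fun k => (t.le k).trans inf_le_left
    have hTL : ∀ k, T k ≤ K ⊔ A := fun k => (hTK k).trans le_sup_left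
    refine ⟨fun k => Nat.casesOn k l p, fun k => Nat.casesOn k S' T, ⟨?_, ?_, ?_, ?_, ?_, ?_, ?_⟩,
      hS'.1, fun hc => tn (hc.trans ?_)⟩
    · rintro (_ | k); exacts [h1.prime, t.prime k]
    · rintro (_ | k); exacts [B12.syl_isPGroup h1.prime hS', t.pgrp k]
    · rintro (_ | k); exacts [hS'.1.trans hXK, hTK k]
    · rintro (_ | k); exacts [hS, t.inv k]
    · rintro (_ | k) (_ | m) hk
      exacts [le_norm_self _, (t.le m).trans inf_le_right, absurd hk (by omega),
        t.norm k m (by omega)]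
    · rintro (_ | k) hk
      · intro e
        refine tn (t.le_cN (inf_le_left.trans (le_sup_left.trans hC)) h.zero_le
          (le_inf le_rfl ((le_centMod' ((hTL 0).trans h1.LN)).mpr
            (h4 _ (t0.trans (resN_mono h inf_le_left)) ((show l = p 0 from e) ▸ t.pgrp 0)))))
      · exact t.ne k (by omega)
    · rintro (_ | k) hk; exacts [absurd hk (by omega), t.bot k (by omega)]
    · generalize h = k
      induction k with
      | zero =>
        have hE : T 0 ⊓ centMod S' (S' ⊓ N) ≤ 𝒩(N₁) := inf_le_left.trans ((hTL 0).trans h1.LN)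
        exact le_inf inf_le_left ((le_centMod' hE).mpr ((commutator_mono (h1.le_sup_syl hS')
          le_rfl).trans (comm_sup_le hE (hS'.1.trans h1.norm) le_rfl (((commutator_mono le_rfl
            inf_le_right).trans (comm_centMod_le _ _)).trans ((inf_le_inf_right N hS'.1).trans h2)))))
      | succ m ihm =>
        exact centMod_mono' ihm (norm_cN ((hTL _).trans hC) m fun i hi => t.norm i _ (by omega))

/-- A minimal tower. -/
structure MT (K A : Subgroup G) (h : ℕ) (p : ℕ → ℕ) (T : ℕ → Subgroup G) : Prop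
    extends Tw K A h p T where
  nt : ¬ T h ≤ cN T ⊥ h
  min : ∀ k X, X < T k → A ≤ 𝒩(X) → (∀ m, k < m → T m ≤ 𝒩(X)) →
    Function.update T k X h ≤ cN (Function.update T k X) ⊥ h

theorem exists_mt {K A : Subgroup G} {h : ℕ} (hs : Group.IsSolvable K) (hA : A ≤ 𝒩(K))
    (hcop : (Nat.card A).Coprime (Nat.card K)) (hne : resN h K ≠ ⊥) : ∃ p T, MT K A h p T := by
  obtain ⟨p, T₀, t₀, -, n₀⟩ := exists_tw h K ⊥ hs hA hcop (le_top.trans norm_bot.ge)
    (mt le_bot_iff.mp hne)
  obtain ⟨T, ⟨t, n⟩, hmin⟩ := exists_minimalFor_of_wellFoundedLT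
    (fun T => Tw K A h p T ∧ ¬ T h ≤ cN T ⊥ h)
    (fun T => ∑ k ∈ Finset.range (h + 1), Nat.card (T k)) ⟨T₀, t₀, n₀⟩
  refine ⟨p, T, t, n, fun k X h1 h2 h3 => ?_⟩
  have hle : ∀ m, Function.update T k X m ≤ T m := update_le_iff.mpr ⟨h1.le, fun _ _ => le_rfl⟩
  have hlt : ∑ m ∈ Finset.range (h + 1), Nat.card (Function.update T k X m) <
      ∑ m ∈ Finset.range (h + 1), Nat.card (T m) := by
    refine Finset.sum_lt_sum (fun m _ => card_le_of_le (hle m)) ⟨k, Finset.mem_range.mpr ?_, ?_⟩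
    · by_contra hk
      exact not_lt_bot (t.bot k (by omega) ▸ h1)
    · rw [Function.update_self]
      exact lt_of_not_ge fun e => h1.ne (eq_of_le_of_card_ge h1.le e)
  by_contra hc
  refine hlt.not_ge (hmin ⟨⟨t.prime, fun m => (t.pgrp m).to_le (hle m), fun m => (hle m).trans (t.le m),
    fun m => ?_, fun i m him => ?_, t.ne, fun m hm => le_bot_iff.mp (t.bot m hm ▸ hle m)⟩, hc⟩ hlt.le)
  · by_cases e : m = k
    · rw [e, Function.update_self]; exact h2
    · rw [Function.update_of_ne e]; exact t.inv m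
  · by_cases e : i = k
    · rcases him.eq_or_lt with rfl | him
      · exact le_norm_self _
      · rw [e, Function.update_self]; exact (hle m).trans (h3 m (e ▸ him))
    · rw [Function.update_of_ne e]; exact (hle m).trans (t.norm i m him)

/-- The Frattini subgroup modulo the kernel. -/
abbrev fN (T : ℕ → Subgroup G) (k : ℕ) : Subgroup G := ⁅T k, T k⁆ ⊔ cN T ⊥ k

/-- Everything acting on level `k`. -/
def up (A : Subgroup G) (T : ℕ → Subgroup G) (k : ℕ) : Subgroup G := A ⊔ ⨆ m, ⨆ (_ : k ≤ m), T m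

omit [Finite G] in
theorem le_up (A : Subgroup G) (T : ℕ → Subgroup G) {k m : ℕ} (h : k ≤ m) : T m ≤ up A T k :=
  (le_iSup₂_of_le (f := fun m (_ : k ≤ m) => T m) m h le_rfl).trans le_sup_right

omit [Finite G] in
theorem cN_update {T : ℕ → Subgroup G} {k : ℕ} {X : Subgroup G} (hX : X ≤ T k) :
    cN (Function.update T k X) ⊥ k = X ⊓ cN T ⊥ k := by
  have : ∀ m < k, cN (Function.update T k X) ⊥ m = cN T ⊥ m := fun m hm => by
    induction m with
    | zero => simp [cN]
    | succ m ih =>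
      rw [cN, cN, ih (by omega), Function.update_of_ne hm.ne, Function.update_of_ne (by omega)]
  rcases k with _ | k
  · simp [cN]
  · rw [cN, cN, this k k.lt_succ_self, Function.update_self, Function.update_of_ne (by omega),
      ← inf_assoc, inf_eq_left.mpr hX]

namespace MT

variable {K A : Subgroup G} {h k : ℕ} {p : ℕ → ℕ} {T : ℕ → Subgroup G} (t : MT K A h p T)
include t

omit [Finite G] in
theorem upN {i : ℕ} (hi : i ≤ k) : up A T k ≤ 𝒩(T i) :=
  sup_le (t.inv i) (iSup₂_le fun m hm => t.norm i m (hi.trans hm))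

omit [Finite G] in
theorem upC (k : ℕ) : up A T k ≤ 𝒩(cN T ⊥ k) :=
  norm_cN (le_top.trans norm_bot.ge) k fun _ hm => t.upN hm

omit [Finite G] in
theorem upF (k : ℕ) : up A T k ≤ 𝒩(fN T k) := norm_sup (norm_der (t.upN le_rfl)) (t.upC k)

omit [Finite G] in
theorem nle (hk : k ≤ h) : ¬ T k ≤ cN T ⊥ k := fun hc =>
  t.nt (t.toTw.le_cN (le_top.trans norm_bot.ge) hk hc)

theorem cop (hk : k < h) : (Nat.card (T (k + 1))).Coprime (Nat.card (T k)) :=
  coprime_pgroup (t.prime _) (t.prime _) (t.ne k hk).symm (t.pgrp _) (t.pgrp _)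

theorem solv (k : ℕ) : Group.IsSolvable (T k) := solv_pgroup (t.prime k) (t.pgrp k)

theorem comm (hk : k < h) : T k ≤ ⁅T k, T (k + 1)⁆ := by
  have h1 := comm_le_left (t.norm k _ k.le_succ)
  by_contra hc
  have h2 := t.min k _ (lt_of_le_not_ge h1 hc) (norm_comm (t.inv _) (t.inv _))
    fun m hm => norm_comm (t.norm _ _ hm.le) (t.norm _ _ hm)
  rw [Function.update_of_ne hk.ne'] at h2
  refine t.nt (h2.trans ?_)
  suffices ∀ m, k + 1 ≤ m → cN (Function.update T k ⁅T k, T (k + 1)⁆) ⊥ m ≤ cN T ⊥ m from this h hk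
  intro m hm
  induction m, hm using Nat.le_induction with
  | base =>
    rw [cN, cN_update h1, Function.update_self, Function.update_of_ne k.succ_ne_self]
    have hE := (inf_le_left (b := centMod ⁅T k, T (k + 1)⁆ (⁅T k, T (k + 1)⁆ ⊓ cN T ⊥ k))).trans
      (t.norm k _ k.le_succ)
    refine le_inf inf_le_left ((le_centMod' (inf_le_left.trans ((le_up A T k.le_succ).trans
      (t.upC k)))).mpr ((comm_comm_eq hE (cop_le (t.cop hk) inf_le_left le_rfl)
        (Or.inr (t.solv k))).trans ?_))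
    exact ((commutator_mono (commutator_mono le_rfl inf_le_left) inf_le_right).trans
      (comm_centMod_le _ _)).trans inf_le_right
  | succ m hm ih =>
    rw [cN, Function.update_of_ne (by omega), Function.update_of_ne (by omega)]
    exact centMod_mono' ih ((le_up A T m.le_succ).trans (t.upC m))

theorem comm_le {X : Subgroup G} (hX : X ≤ T k) (hn : ¬ T k ≤ X) (h1 : A ≤ 𝒩(X))
    (h2 : ∀ m, k < m → T m ≤ 𝒩(X)) (hk : k < h) : ⁅X, T (k + 1)⁆ ≤ cN T ⊥ k := by
  have h3 := t.min k X (lt_of_le_not_ge hX hn) h1 h2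
  rw [Function.update_of_ne hk.ne'] at h3
  have h4 : T (k + 1) ≤ cN (Function.update T k X) ⊥ (k + 1) :=
    Nat.decreasingInduction' (P := fun m => T m ≤ cN (Function.update T k X) ⊥ m)
      (fun m hm hkm ih => by
        rw [cN, Function.update_of_ne (show m ≠ k by omega)] at ih
        exact (t.comm hm).trans ((commutator_mono le_rfl (ih.trans inf_le_right)).trans
          (comm_centMod_le _ _))) hk h3
  rw [cN, Function.update_self, cN_update hX] at h4
  exact ((commutator_mono le_rfl (h4.trans inf_le_right)).trans (comm_centMod_le _ _)).trans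
    inf_le_right

omit [Finite G] in
theorem le_top {X : Subgroup G} (hX : X ≤ T h) (hn : ¬ T h ≤ X) (h1 : A ≤ 𝒩(X)) : X ≤ cN T ⊥ h := by
  have h3 := t.min h X (lt_of_le_not_ge hX hn) h1 fun m hm => t.bot m hm ▸ bot_le
  rw [Function.update_self, cN_update hX] at h3
  exact h3.trans inf_le_right

omit [Finite G] t in
theorem F_le (T : ℕ → Subgroup G) (k : ℕ) : fN T k ≤ T k := sup_le (der_le _) (cN_le T ⊥ k)

theorem nleF (hk : k ≤ h) : ¬ T k ≤ fN T k := fun hc =>
  t.nle hk (le_of_le_sup_der (t.prime k) (t.pgrp k) (cN_le T ⊥ k) (hc.trans (sup_comm _ _).le))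

theorem eq_or_le {X : Subgroup G} (hX : X ≤ T k) (h1 : A ≤ 𝒩(X)) (h2 : ∀ m, k < m → T m ≤ 𝒩(X))
    (hk : k ≤ h) : T k ≤ X ∨ X ≤ fN T k := by
  refine or_iff_not_imp_left.mpr fun hn => ?_
  rcases hk.eq_or_lt with rfl | hk
  · exact (t.le_top hX hn h1).trans le_sup_right
  · have hF := t.upF k
    exact (le_inf hX (le_centMod.mpr ⟨hX.trans ((le_up A T le_rfl).trans hF),
      (t.comm_le hX hn h1 h2 hk).trans le_sup_right⟩)).trans
        (centMod_le_of_le_comm (F_le T k) le_sup_left (t.norm k _ k.le_succ)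
          ((le_up A T k.le_succ).trans hF) (t.cop hk) ((t.comm hk).trans le_sup_left))

theorem F_top : fN T h ≤ cN T ⊥ h :=
  t.le_top (F_le T h) (t.nleF le_rfl) (le_sup_left.trans (t.upF h))

theorem comm_F (hk : k ≤ h) : ⁅fN T k, T (k + 1)⁆ ≤ cN T ⊥ k := by
  rcases hk.eq_or_lt with rfl | hk'
  · rw [t.bot _ k.lt_succ_self, commutator_bot_right]; exact bot_le
  exact t.comm_le (F_le T k) (t.nleF hk) (le_sup_left.trans (t.upF k))
    (fun m hm => (le_up A T hm.le).trans (t.upF k)) hk'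

theorem comm_der (hk : k ≤ h) : ⁅T k, ⁅T k, T k⁆⁆ ≤ cN T ⊥ k := by
  have h0 := (le_up A T le_rfl).trans (t.upC k)
  rcases hk.eq_or_lt with rfl | hk'
  · exact (commutator_mono le_rfl (le_sup_left.trans t.F_top)).trans (comm_le_right h0)
  have h1 := (commutator_mono le_sup_left le_rfl).trans (t.comm_F hk)
  refine (commutator_mono (t.comm hk') le_rfl).trans (three_subgroups_mod h0
    ((le_up A T k.le_succ).trans (t.upC k)) ((der_le _).trans h0) ?_ ?_)
  · exact (commutator_mono ((commutator_comm _ _).le.trans h1) le_rfl).trans (comm_le_left h0)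
  · exact (commutator_mono (comm_le_left (norm_der (le_norm_self _))) le_rfl).trans h1

theorem sec (hk : k ≤ h) : Sec (p k) (T k) (fN T k) (up A T k) := by
  obtain ⟨l, N, h1, h2, h3, -⟩ := exists_chief (t.solv k) (le_up A T le_rfl) (t.upN le_rfl) (t.upF k)
    (t.nleF hk)
  have e : N = fN T k := le_antisymm ((t.eq_or_le h1.le (le_sup_left.trans h1.LN)
    (fun m hm => (le_up A T hm.le).trans h1.LN) hk).resolve_left h3)
      ((le_inf (F_le T k) le_rfl).trans h2)
  by_cases hl : l = p k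
  · exact hl ▸ e ▸ h1
  · exact absurd rfl (h1.ne_of_not_dvd h3 le_rfl (not_dvd_pgroup h1.prime (t.prime k) hl (t.pgrp k)))

theorem comm_le_C {B : Subgroup G} (hB : B ≤ up A T k)
    (hcop : (Nat.card B).Coprime (Nat.card (T k))) (hc : ⁅T k, B⁆ ≤ fN T k) : ⁅T k, B⁆ ≤ cN T ⊥ k :=
  comm_le_of_le_der_sup (t.prime k) (t.pgrp k) (cN_le T ⊥ k) ((le_up A T le_rfl).trans (t.upC k))
    (hB.trans (t.upN le_rfl)) (hB.trans (t.upC k)) hcop hc

theorem faith (hk : k < h) : T (k + 1) ⊓ centMod (T k) (fN T k) = cN T ⊥ (k + 1) := by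
  have h1 := le_up A T k.le_succ
  refine le_antisymm (le_inf inf_le_left ((le_centMod' (inf_le_left.trans (h1.trans (t.upC k)))).mpr
    (t.comm_le_C (inf_le_left.trans h1) (cop_le (t.cop hk) inf_le_left le_rfl) ?_)))
    (centMod_mono' le_sup_right (h1.trans (t.upF k)))
  exact (commutator_mono le_rfl inf_le_right).trans (comm_centMod_le _ _)

/-- Levels on which `B` acts trivially modulo the kernels are centralized by `B`. -/
theorem le_cent {B : Subgroup G} (hB : B ≤ A) (hAB : A ≤ 𝒩(B))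
    (hcop : (Nat.card A).Coprime (Nat.card K)) (k : ℕ)
    (hc : ∀ m, k ≤ m → m ≤ h → ⁅T m, B⁆ ≤ fN T m) : ∀ m, k ≤ m → T m ≤ 𝒞(B) := by
  intro m hm
  induction hd : h + 1 - m using Nat.strong_induction_on generalizing m with | _ d ih => ?_
  rcases le_or_gt m h with hmh | hmh
  swap
  · rw [t.bot m hmh]; exact bot_le
  refine ((t.eq_or_le (X := T m ⊓ 𝒞(B)) inf_le_left (norm_inf (t.inv m) (norm_cent hAB))
    (fun i hi => norm_inf (t.norm m i hi.le)
      ((ih _ (by omega) i (by omega) rfl).trans (le_norm_self _))) hmh).resolve_right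
        fun hle => t.nleF hmh ?_).trans inf_le_right
  exact (Solv.coprime_commutator_sup_centralizer B (T m) (hB.trans (t.inv m))
    (cop_le hcop hB (t.le m)) (Or.inr (t.solv m))).ge.trans (sup_le (hc m hm hmh) hle)

theorem le_comm {B : Subgroup G} (hB : B ≤ A) (hAB : A ≤ 𝒩(B)) (hk : k ≤ h)
    (hc : ∀ m, k < m → T m ≤ 𝒞(B)) (hn : ¬ ⁅T k, B⁆ ≤ fN T k) : T k ≤ ⁅T k, B⁆ :=
  (t.eq_or_le (comm_le_left (hB.trans (t.inv k))) (norm_comm (t.inv k) hAB)
    (fun m hm => norm_comm (t.norm k m hm.le) ((hc m hm).trans (cent_le_norm B))) hk).resolve_right hn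

end MT

end Cfsg.Agent.FH
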