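import Mathlib
import Cfsg.Agent.FH.Tower

/-! Support lemmas: the part of `P` centralizing `[M, [P, α]]`. -/

set_option autoImplicit false

namespace Cfsg.Agent.FH
open Cfsg.Agent.FT Cfsg.Agent.PLocal.CommMod Subgroup
open scoped commutatorElement

universe u

variable {G : Type u} [Group G]

/-- Elements of the normalizer of `N` commuting with `v` modulo `N`. -/
def cm1 (v : G) (N : Subgroup G) : Subgroup G where
  carrier := {x | x ∈ 𝒩(N) ∧ ⁅x, v⁆ ∈ N}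
  one_mem' := ⟨one_mem _, by simp⟩
  mul_mem' := by
    rintro a b ⟨ha, ha'⟩ ⟨hb, hb'⟩
    refine ⟨mul_mem ha hb, ?_⟩
    rw [commutatorElement_mul_left_eq_conj_mul]
    exact N.mul_mem (conj_mem_of_mem_normalizer ha hb') ha'
  inv_mem' := by
    rintro a ⟨ha, ha'⟩
    refine ⟨inv_mem ha, ?_⟩
    rw [commutatorElement_inv_left, ← commutatorElement_inv]
    exact conj_mem_of_mem_normalizer' ha (N.inv_mem ha')

theorem mem_centMod_zpowers {N : Subgroup G} {x g : G} (hx : x ∈ 𝒩(N)) (hg : g ∈ 𝒩(N))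
    (h : ⁅x, g⁆ ∈ N) : x ∈ centMod (zpowers g) N :=
  ⟨hx, fun y hy => commutatorElement_inv y x ▸ N.inv_mem
    ((zpowers_le.mpr ⟨hg, commutatorElement_inv x g ▸ N.inv_mem h⟩ : zpowers g ≤ cm1 x N) hy).2⟩

/-- The part of `P` centralizing `[M, [P, β]]`. -/
def dS (M P : Subgroup G) (β : G) : Subgroup G := P ⊓ 𝒞(⁅M, ⁅P, zpowers β⁆⁆)

theorem cj_dS {M P : Subgroup G} {g : G} (hM : g ∈ 𝒩(M)) (hP : g ∈ 𝒩(P)) (β : G) :
    cj g (dS M P β) = dS M P (g * β * g⁻¹) := by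
  rw [dS, cj_inf, cj_centralizer, cj_commutator, cj_commutator, cj_zpowers,
    cj_of_mem_normalizer hM, cj_of_mem_normalizer hP, dS]

theorem cj_inf_cent1 {P : Subgroup G} {g : G} (hP : g ∈ 𝒩(P)) (β : G) :
    cj g (P ⊓ 𝒞[β]) = P ⊓ 𝒞[g * β * g⁻¹] := by
  rw [cj_inf, cj_centralizer_singleton, cj_of_mem_normalizer hP]

theorem cent_le_centMod_of_le {P N : Subgroup G} (h : N ≤ P) : 𝒞(P) ≤ centMod P N :=
  le_centMod.mpr ⟨(cent_anti h).trans (cent_le_norm N),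
    (comm_eq_bot_iff.mpr le_rfl).le.trans bot_le⟩

variable [Finite G]

theorem hom_ind {L X : Subgroup G} (𝓔 : Set (Subgroup G)) {M : Subgroup G}
    (hE : ∀ E ∈ 𝓔, E ≤ L ∧ L ≤ 𝒩(E) ∧ (Nat.card E).Coprime (Nat.card M) ∧ Group.IsSolvable E)
    (hL : L ≤ 𝒩(M))
    (h : ∀ W ≤ M, L ≤ 𝒩(W) → (∀ E ∈ 𝓔, W ≤ 𝒞(E) ∨ W ≤ ⁅W, E⁆) → W ≤ 𝒞(X)) : M ≤ 𝒞(X) := by
  induction M using WellFoundedLT.induction with | ind M ih => ?_
  by_cases hc : ∀ E ∈ 𝓔, M ≤ 𝒞(E) ∨ M ≤ ⁅M, E⁆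
  · exact h M le_rfl hL hc
  push Not at hc
  obtain ⟨E, hE𝓔, h1, h2⟩ := hc
  obtain ⟨e1, e2, e3, e4⟩ := hE E hE𝓔
  have ih' : ∀ W < M, L ≤ 𝒩(W) → W ≤ 𝒞(X) := fun W hW hLW => ih W hW
    (fun E hE' => ⟨(hE E hE').1, (hE E hE').2.1, cop_le (hE E hE').2.2.1 le_rfl hW.le,
      (hE E hE').2.2.2⟩) hLW fun V hV => h V (hV.trans hW.le)
  rw [← Solv.coprime_commutator_sup_centralizer E M (e1.trans hL) e3 (Or.inl e4)]
  exact sup_le (ih' _ (lt_of_le_not_ge (comm_le_left (e1.trans hL)) h2) (norm_comm hL e2))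
    (ih' _ (inf_lt_left.mpr h1) (norm_inf hL (norm_cent e2)))

theorem exists_fix_of_conj_mem {Y H : Subgroup G} {β w : G} (hβY : β ∈ 𝒩(Y))
    (hcop : (Nat.card (zpowers β)).Coprime (Nat.card Y)) (hY : Y ≤ ⁅Y, zpowers β⁆) (hβ : β ∈ H)
    (hw : w ∈ Y) (h : w * β * w⁻¹ ∈ H) : ∃ n ∈ H ⊓ Y, w⁻¹ * n ∈ ⁅Y, Y⁆ ⊓ 𝒞[β] := by
  have hX := zpowers_le.mpr hβY
  obtain ⟨n, hn, h1⟩ := Solv.coprime_fixed_coset' (zpowers β) (H ⊓ Y)
    (norm_inf ((zpowers_le.mpr hβ).trans (le_norm_self H)) hX) (cop_le hcop le_rfl inf_le_right)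
    (Or.inl (solv_cyc β)) w⁻¹ fun a ha => ⟨by
      have := (zpowers_le.mpr h) (cj_zpowers w β ▸ conj_mem_cj.mpr ha)
      simpa [mul_assoc] using H.mul_mem this (H.inv_mem (zpowers_le.mpr hβ ha)),
      Y.mul_mem (by simpa) (conj_mem_of_mem_normalizer (hX ha) (Y.inv_mem hw))⟩
  exact ⟨n, hn, cent_le_der hX hcop hY ⟨Y.mul_mem (Y.inv_mem hw) hn.2, h1⟩, cent_zpowers β ▸ h1⟩

theorem jlem {Y H : Subgroup G} {β w : G} (hβY : β ∈ 𝒩(Y))
    (hcop : (Nat.card (zpowers β)).Coprime (Nat.card Y)) (hY : Y ≤ ⁅Y, zpowers β⁆)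
    (hH : ⁅⁅Y, Y⁆, Y⁆ ≤ H) (hβ : β ∈ H) (hw : w ∈ Y) {b : G} (hb : b ∈ zpowers β)
    (ho : (orderOf (w * b)).Coprime (Nat.card Y)) (h : w * β * w⁻¹ ∈ H) : w * b ∈ H := by
  obtain ⟨n, hn, hs, hs'⟩ := exists_fix_of_conj_mem hβY hcop hY hβ hw h
  set s := w⁻¹ * n
  have hsb : Commute s b := (mem_cent_iff.mp (cent_zpowers β ▸ hs') b hb).symm
  have key : ∀ j : ℕ, (w * b) ^ j * s ^ j ∈ H := fun j => by
    induction j with
    | zero => simp
    | succ j ih =>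
      have e : (w * b) ^ (j + 1) * s ^ (j + 1) =
          (w * b) ^ j * s ^ j * (⁅(s ^ j)⁻¹, n⁆ * n * b) := by
        have : b * s ^ (j + 1) = s ^ (j + 1) * b := (hsb.pow_left _).symm
        rw [pow_succ (w * b), mul_assoc, mul_assoc w, this, show w = n * s⁻¹ by simp [s]]
        simp only [commutatorElement_def]
        group
      rw [e]
      exact H.mul_mem ih (H.mul_mem (H.mul_mem (hH (commutator_mem_commutator
        (inv_mem (pow_mem hs j)) hn.2)) hn.1) (zpowers_le.mpr hβ hb))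
  have h1 := key (Nat.card Y)
  rw [show s ^ Nat.card Y = 1 from congrArg Subtype.val (pow_card_eq_one' (x := (⟨s, der_le Y hs⟩ : Y))),
    mul_one] at h1
  exact zpowers_le.mpr h1 ((zpowers_pow_eq ho).ge (mem_zpowers _))

theorem exists_norm {P N : Subgroup G} {β d : G} (hβ : β ∈ 𝒩(P)) (hN : P ≤ 𝒩(N))
    (hcop : (Nat.card (zpowers β)).Coprime (Nat.card P)) (hd : d ∈ P)
    (h : ∀ a ∈ zpowers β, a ≠ 1 → a * d * a⁻¹ ∈ N) : ∃ e ∈ P ⊓ 𝒞[β], d⁻¹ * e ∈ N := by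
  have hX := zpowers_le.mpr hβ
  set N' := P ⊓ ⨅ a : zpowers β, cj a N
  have hm : ∀ x, x ∈ N' ↔ x ∈ P ∧ ∀ a ∈ zpowers β, a⁻¹ * x * a ∈ N := fun x => by
    simp only [N', mem_inf, mem_iInf, mem_cj, Subtype.forall]
  have h1 : ∀ j, j < orderOf β → (d * β) ^ (j + 1) * (β ^ (j + 1))⁻¹ ∈ P ∧
      d⁻¹ * ((d * β) ^ (j + 1) * (β ^ (j + 1))⁻¹) ∈ N := fun j hj => by
    induction j with
    | zero => simpa
    | succ j ih =>
      have e : (d * β) ^ (j + 1 + 1) * (β ^ (j + 1 + 1))⁻¹ =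
          (d * β) ^ (j + 1) * (β ^ (j + 1))⁻¹ * (β ^ (j + 1) * d * (β ^ (j + 1))⁻¹) := by
        rw [pow_succ (d * β) (j + 1)]; group
      rw [e, ← mul_assoc d⁻¹]
      exact ⟨P.mul_mem (ih (by omega)).1 (conj_mem_of_mem_normalizer (hX (npow_mem_zpowers β _)) hd),
        N.mul_mem (ih (by omega)).2 (h _ (npow_mem_zpowers β _)
          (pow_ne_one_of_lt_orderOf (by omega) hj))⟩
  obtain ⟨h2, h3⟩ := h1 (orderOf β - 1) (by have := orderOf_pos β; omega)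
  rw [Nat.sub_add_cancel (orderOf_pos β), pow_orderOf_eq_one, inv_one, mul_one] at h2 h3
  set e := (d * β) ^ orderOf β
  have hXN : zpowers β ≤ 𝒩(N') := le_normalizer_iff.mpr fun b hb x hx => (hm _).mpr
    ⟨conj_mem_of_mem_normalizer (hX hb) hx.1, fun a ha => by
      simpa [mul_assoc] using ((hm x).mp hx).2 _ (mul_mem (inv_mem hb) ha)⟩
  have hPN : P ≤ 𝒩(N') := le_normalizer_iff.mpr fun b hb x hx => (hm _).mpr
    ⟨conj_mem_of_mem_normalizer (le_norm_self P hb) hx.1, fun a ha => by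
      simpa [mul_assoc] using conj_mem_of_mem_normalizer
        (hN (conj_mem_of_mem_normalizer' (hX ha) hb)) (((hm x).mp hx).2 a ha)⟩
  have h4 : ⁅e, β⁆ ∈ N' := by
    have e1 : ⁅e, β⁆ = ⁅e, d⁻¹⁆ := by
      have : d * β * e = e * (d * β) := (Commute.pow_self _ _).symm
      simp only [commutatorElement_def]
      calc e * β * e⁻¹ * β⁻¹ = e * d⁻¹ * e⁻¹ * (e * (d * β)) * e⁻¹ * β⁻¹ := by group
        _ = _ := by rw [← this]; group
    rw [e1, hm]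
    refine ⟨der_le P (commutator_mem_commutator h2 (P.inv_mem hd)), fun a ha => ?_⟩
    by_cases h1 : a = 1
    · simpa [h1, commutatorElement_def, mul_assoc] using
        N.mul_mem (conj_mem_of_mem_normalizer (hN hd) h3) (N.inv_mem h3)
    · have h5 := N.inv_mem (h a⁻¹ (inv_mem ha) (inv_ne_one.mpr h1))
      have := N.mul_mem (conj_mem_of_mem_normalizer
        (hN (conj_mem_of_mem_normalizer' (hX ha) h2)) h5) (N.inv_mem h5)
      simpa [commutatorElement_def, mul_assoc] using this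
  obtain ⟨c, hc, n, hn, hcn⟩ := (mem_sup_norm' (inf_le_left.trans hPN)).mp
    (inf_centMod_le_sup inf_le_left hXN (cop_le hcop le_rfl inf_le_left) (Or.inl (solv_cyc β))
      ⟨h2, mem_centMod_zpowers (hPN h2) (hXN (mem_zpowers β)) h4⟩)
  refine ⟨c, ⟨hc.1, cent_zpowers β ▸ hc.2⟩, ?_⟩
  rw [eq_mul_inv_of_mul_eq hcn, ← mul_assoc]
  exact N.mul_mem h3 (N.inv_mem (by simpa using ((hm n).mp hn).2 1 (one_mem _)))

theorem exists_not_mem_of_index {ι : Type*} [Finite ι] {Y : Subgroup G} (B : ι → Subgroup G)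
    (h2 : 2 ≤ Nat.card ι) (h : ∀ i, Nat.card ι ≤ (B i).relIndex Y) : ∃ g ∈ Y, ∀ i, g ∉ B i := by
  classical
  have := Fintype.ofFinite ι
  have := Fintype.ofFinite Y
  by_contra hc
  push Not at hc
  let s : ι → Finset Y := fun i => (Finset.univ.filter fun y : Y => (y : G) ∈ B i).erase 1
  have h1 : (Finset.univ.erase (1 : Y)).card ≤ ∑ i, (s i).card :=
    (Finset.card_le_card fun y hy => by
      obtain ⟨i, hi⟩ := hc y y.2
      exact Finset.mem_biUnion.mpr ⟨i, Finset.mem_univ _, Finset.mem_erase.mpr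
        ⟨Finset.ne_of_mem_erase hy, by simpa⟩⟩).trans Finset.card_biUnion_le
  have h3 : ∀ i, Nat.card ι * ((s i).card + 1) ≤ Nat.card Y := fun i => by
    rw [Finset.card_erase_add_one (by simp), ← ((B i).subgroupOf Y).index_mul_card,
      ← Fintype.card_subtype, ← Nat.card_eq_fintype_card]
    exact Nat.mul_le_mul_right _ (h i)
  have h4 := Finset.sum_le_sum fun i (_ : i ∈ Finset.univ) => h3 i
  rw [← Finset.mul_sum, Finset.sum_add_distrib, Finset.sum_const, Finset.sum_const,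
    Finset.card_univ, ← Nat.card_eq_fintype_card, smul_eq_mul, smul_eq_mul, mul_one] at h4
  rw [Finset.card_erase_of_mem (Finset.mem_univ _), Finset.card_univ,
    ← Nat.card_eq_fintype_card] at h1
  have := Nat.le_of_mul_le_mul_left h4 (by omega)
  omega

theorem lt_relIndex_of_fpf {Y B : Subgroup G} {α : G} (hα : (Nat.card (zpowers α)).Prime)
    (hY : α ∈ 𝒩(Y)) (hcop : (Nat.card (zpowers α)).Coprime (Nat.card Y))
    (hc : Y ≤ ⁅Y, zpowers α⁆) (hBY : B ≤ Y) (hB : ⁅Y, Y⁆ ≤ B) (hαB : α ∈ 𝒩(B)) (hn : ¬ Y ≤ B) :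
    Nat.card (zpowers α) + 1 ≤ B.relIndex Y := by
  have hX := zpowers_le.mpr hY
  have hQ : Y ≤ Y ⊔ zpowers α := le_sup_left
  have := NormIn.normal (H := B)
    ⟨hBY.trans hQ, sup_le (le_norm_of_der_le hBY hB) (zpowers_le.mpr hαB)⟩
  have h1 := (Qt.semiReg (zpowers_le.mpr hαB) hBY (hBY.trans hQ) (cop_le hcop le_rfl hBY)
    fun a ha h1 => by
      rw [← cent_zpowers, zpowers_eq_of_card_prime hα ha h1]
      exact (cent_le_der hX hcop hc).trans hB).card_dvd (Qt.norm hX)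
  rw [Qt.card_of_disjoint le_sup_right
    (disjoint_iff.mp (disjoint_of_coprime_natCard (cop_le hcop le_rfl hBY).symm)),
    Qt.card_eq_relIndex hQ] at h1
  have h2 : B.relIndex Y ≠ 1 := fun e => hn (relIndex_eq_one.mp e)
  have h3 : B.relIndex Y ≠ 0 := index_ne_zero_of_finite
  have := Nat.le_of_dvd (by omega) h1
  omega

/-- The setting of the support lemmas. -/
structure SS (M P Y : Subgroup G) (α : G) : Prop where
  prime : (Nat.card (zpowers α)).Prime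
  αM : α ∈ 𝒩(M)
  αP : α ∈ 𝒩(P)
  αY : α ∈ 𝒩(Y)
  YM : Y ≤ 𝒩(M)
  YP : Y ≤ 𝒩(P)
  PM : P ≤ 𝒩(M)
  copP : (Nat.card (zpowers α)).Coprime (Nat.card P)
  copY : (Nat.card (zpowers α)).Coprime (Nat.card Y)
  copM : (Nat.card P).Coprime (Nat.card M)
  solv : Group.IsSolvable P
  comm : Y ≤ ⁅Y, zpowers α⁆
  cls : ⁅⁅Y, Y⁆, Y⁆ ≤ 𝒞(P)
  faith : P ⊓ 𝒞(M) = ⊥

/-- `N` is the kernel on a homogeneous piece. -/
structure HomN (M P Y : Subgroup G) (α : G) (N : Subgroup G) : Prop where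
  le : N ≤ P
  norm : P ≤ 𝒩(N)
  alt : ∀ g ∈ Y, g * α * g⁻¹ ∈ centMod P N ∨ dS M P (g * α * g⁻¹) ≤ N

omit [Finite G] in
theorem HomN.conj {M P Y N : Subgroup G} {α g : G} (h : HomN M P Y α N) (hg : g ∈ Y) :
    HomN M P Y (g * α * g⁻¹) N :=
  ⟨h.le, h.norm, fun x hx => by simpa [mul_assoc] using h.alt _ (Y.mul_mem hx hg)⟩

namespace SS

variable {M P Y N U X : Subgroup G} {α g : G} (s : SS M P Y α)
include s

omit [Finite G] in
theorem conj (hg : g ∈ Y) : SS M P Y (g * α * g⁻¹) := by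
  have e : Nat.card (zpowers (g * α * g⁻¹)) = Nat.card (zpowers α) := by rw [← cj_zpowers, card_cj]
  have n : ∀ {H : Subgroup G}, Y ≤ 𝒩(H) → α ∈ 𝒩(H) → g * α * g⁻¹ ∈ 𝒩(H) := fun h1 h2 =>
    mul_mem (mul_mem (h1 hg) h2) (inv_mem (h1 hg))
  refine { s with
    prime := e ▸ s.prime, αM := n s.YM s.αM, αP := n s.YP s.αP, αY := n (le_norm_self Y) s.αY
    copP := e ▸ s.copP, copY := e ▸ s.copY, comm := ?_ }
  rw [← cj_zpowers]
  conv => rw [← cj_of_mem hg, ← cj_commutator, cj_le_cj]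
  exact s.comm

theorem supp (hUM : U ≤ 𝒩(M)) (hUP : U ≤ 𝒩(P))
    (hU : ∀ g ∈ Y, U ≤ 𝒩(⁅P, zpowers (g * α * g⁻¹)⁆)) (hX : X ≤ P)
    (h : ∀ N, HomN M P Y α N → U ≤ 𝒩(N) → (∃ g ∈ Y, g * α * g⁻¹ ∉ centMod P N) →
      ∀ g ∈ Y, cj g X ≤ N) : X ≤ 𝒞(Y) := by
  have hE := fun g (hg : g ∈ Y) => comm_le_left (zpowers_le.mpr (s.conj hg).αP)
  have hXY := (commutator_mono hX le_rfl).trans (comm_le_left s.YP)
  rw [← comm_eq_bot_iff, eq_bot_iff, ← s.faith]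
  refine le_inf hXY (le_cent_comm.mp (hom_ind (L := P ⊔ U)
    {E | ∃ g ∈ Y, E = ⁅P, zpowers (g * α * g⁻¹)⁆} ?_ (sup_le s.PM hUM) fun W hW hL hh => ?_))
  · rintro _ ⟨g, hg, rfl⟩
    exact ⟨(hE g hg).trans le_sup_left, sup_le (Solv.le_normalizer_commutator_left _ _) (hU g hg),
      cop_le s.copM (hE g hg) le_rfl, isSolvable_of_le (hE g hg) s.solv⟩
  have hN : HomN M P Y α (P ⊓ 𝒞(W)) := ⟨inf_le_left, norm_inf (le_norm_self P)
    (norm_cent (le_sup_left.trans hL)), fun g hg => by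
      rcases hh _ ⟨g, hg, rfl⟩ with h1 | h1
      · have h2 := le_inf (hE g hg) (le_cent_comm.mp h1)
        exact Or.inl ((le_centMod' (le_norm_of_comm_le
          ((commutator_mono inf_le_left le_rfl).trans h2))).mpr h2 (mem_zpowers _))
      · exact Or.inr (inf_le_inf_left P (cent_anti (h1.trans (commutator_mono hW le_rfl))))⟩
  refine le_cent_comm.mp (le_trans ?_ (inf_le_right (a := P)))
  by_cases hc : ∃ g ∈ Y, g * α * g⁻¹ ∉ centMod P (P ⊓ 𝒞(W))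
  · have h1 := h _ hN (norm_inf hUP (norm_cent (le_sup_right.trans hL))) hc
    refine commutator_le.mpr fun x hx y hy => ?_
    simpa only [commutatorElement_def, mul_assoc] using
      mul_mem (h1 1 Y.one_mem (by simpa)) (h1 y hy (conj_mem_cj.mpr (X.inv_mem hx)))
  · push Not at hc
    have h1 : Y ≤ centMod P (P ⊓ 𝒞(W)) := s.comm.trans (commutator_le.mpr fun g hg a ha =>
      mul_mem (zpowers_le.mpr (hc g hg) (cj_zpowers g α ▸ conj_mem_cj.mpr ha))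
        (inv_mem (zpowers_le.mpr (by simpa using hc 1 Y.one_mem) ha)))
    exact (commutator_mono hX h1).trans (comm_centMod_le _ _)

theorem exists_norm' (hN : HomN M P Y α N) (hα : α ∉ centMod P N) (hg : g ∈ Y)
    (hβ : g * α * g⁻¹ ∈ centMod P N) {P₀ : Subgroup G} (h0 : P₀ ≤ P) (hα0 : α ∈ 𝒩(P₀)) {d : G}
    (hd : d ∈ dS M P (g * α * g⁻¹)) (hd0 : d ∈ P₀) : ∃ e ∈ P₀ ⊓ 𝒞[α], d⁻¹ * e ∈ N := by
  refine exists_norm hα0 (h0.trans hN.norm) (cop_le s.copP le_rfl h0) hd0 fun a ha h1 => ?_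
  have hc : Commute a α := mem_cent1_iff.mp (zpowers_le.mpr (mem_cent1_self α) ha)
  have hg' := conj_mem_of_mem_normalizer (zpowers_le.mpr s.αY ha) hg
  have e : a * g * a⁻¹ * α * (a * g * a⁻¹)⁻¹ = a * (g * α * g⁻¹) * a⁻¹ := by
    rw [show a * g * a⁻¹ * α = a * g * (a⁻¹ * α) by group, hc.inv_left.eq]; group
  rcases hN.alt _ hg' with h2 | h2
  · have s' := s.conj hg
    have h3 := jlem s'.αY s'.copY s'.comm
      ((s.cls.trans (cent_le_centMod_of_le hN.le))) hβ (Y.mul_mem hg' (Y.inv_mem hg))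
      (b := g * a * g⁻¹) (cj_zpowers g α ▸ conj_mem_cj.mpr ha)
      (by rw [show a * g * a⁻¹ * g⁻¹ * (g * a * g⁻¹) = a by group]
          exact s.copY.coprime_dvd_left (orderOf_dvd_natCard _ ha))
      (by convert h2 using 1; group)
    rw [show a * g * a⁻¹ * g⁻¹ * (g * a * g⁻¹) = a by group] at h3
    exact absurd (zpowers_le.mpr h3 ((zpowers_eq_of_card_prime s.prime ha h1).ge (mem_zpowers α))) hα
  · rw [e, ← cj_dS (zpowers_le.mpr s.αM ha) (zpowers_le.mpr s.αP ha)] at h2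
    exact h2 (conj_mem_cj.mpr hd)

theorem core (hN : HomN M P Y α N) {g₁ : G} (h1 : g₁ ∈ Y) (hα : g₁ * α * g₁⁻¹ ∉ centMod P N)
    (hg : g ∈ Y) : dS M P (g * α * g⁻¹) ≤ N ⊔ cj g₁ (P ⊓ 𝒞[α]) := by
  rcases hN.alt g hg with h | h
  swap
  · exact h.trans le_sup_left
  intro d hd
  have e : g * g₁⁻¹ * (g₁ * α * g₁⁻¹) * (g * g₁⁻¹)⁻¹ = g * α * g⁻¹ := by group
  obtain ⟨c, hc, h2⟩ := (s.conj h1).exists_norm' (hN.conj h1) hα (Y.mul_mem hg (Y.inv_mem h1))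
    (e ▸ h) le_rfl (s.conj h1).αP (e ▸ hd) hd.1
  rw [show d = c * (d⁻¹ * c)⁻¹ by group, cj_inf_cent1 (s.YP h1)]
  exact mul_mem (mem_sup_right hc) (mem_sup_left (N.inv_mem h2))

theorem sl0 (h : P ⊓ 𝒞[α] ≤ dS M P α) : dS M P α ≤ 𝒞(Y) := by
  refine s.supp (U := ⊥) bot_le bot_le (fun _ _ => bot_le) inf_le_left
    fun N hN _ ⟨g₁, h1, h2⟩ g hg => ?_
  rw [cj_dS (s.YM hg) (s.YP hg)]
  refine (s.core hN h1 h2 hg).trans (sup_le le_rfl ((cj_mono _ h).trans ?_))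
  rw [cj_dS (s.YM h1) (s.YP h1)]
  exact (hN.alt g₁ h1).resolve_left h2

theorem sl1 (hUM : U ≤ 𝒩(M)) (hUP : U ≤ 𝒩(P)) (hUα : U ≤ 𝒞[α]) (hYU : ⁅Y, U⁆ ≤ 𝒞(P))
    (h : ⁅P ⊓ 𝒞[α], U⁆ ≤ dS M P α) : ⁅dS M P α, U⁆ ≤ 𝒞(Y) := by
  have key : ∀ g ∈ Y, ∀ Z ≤ P, cj g ⁅Z, U⁆ ≤ ⁅cj g Z, U⁆ := fun g hg Z hZ => by
    rw [cj_commutator, commutator_le]
    rintro x hx _ ⟨u, hu, rfl⟩
    have hxP := (cj_mono g hZ).trans (cj_of_mem_normalizer (s.YP hg)).le hx
    have h1 := hYU (commutator_mem_commutator hg hu)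
    have h2 := h1 _ (conj_mem_of_mem_normalizer (hUP hu) (P.inv_mem hxP))
    have h3 := h1 _ hxP
    convert commutator_mem_commutator hx hu using 1
    change x * (g * u * g⁻¹) * x⁻¹ * (g * u * g⁻¹)⁻¹ = _
    calc _ = x * (⁅g, u⁆ * (u * x⁻¹ * u⁻¹)) * ⁅g, u⁆⁻¹ := by simp only [commutatorElement_def]; group
      _ = _ := by rw [← h2, commutatorElement_def x]; group
  have hD : U ≤ 𝒩(dS M P α) := norm_inf hUP (norm_cent (norm_comm hUM (norm_comm hUP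
    ((cent_zpowers α ▸ hUα :).trans (cent_le_norm _)))))
  refine s.supp hUM hUP (fun g hg u hu => ?_) ((comm_le_left hD).trans inf_le_left)
    fun N hN hUN ⟨g₁, h1, h2⟩ g hg => (key g hg (dS M P α) inf_le_left).trans ?_
  · have h1 := hYU (commutator_mem_commutator hg hu)
    have h2 : ⁅g, u⁆ ∈ 𝒩(⁅P, zpowers (g * α * g⁻¹)⁆) := cent_le_norm _
      (cent_anti (comm_le_left (zpowers_le.mpr (s.conj hg).αP)) h1)
    have h3 : g * u * g⁻¹ ∈ 𝒩(⁅P, zpowers (g * α * g⁻¹)⁆) := by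
      rw [← cj_zpowers, ← cj_of_mem_normalizer (s.YP hg), ← cj_commutator, ← cj_normalizer,
        conj_mem_cj]
      exact norm_comm hUP ((cent_zpowers α ▸ hUα :).trans (cent_le_norm _)) hu
    simpa [commutatorElement_def, mul_assoc] using mul_mem (inv_mem h2) h3
  · rw [cj_dS (s.YM hg) (s.YP hg)]
    have h3 : cj g₁ (P ⊓ 𝒞[α]) ≤ P :=
      (cj_mono g₁ inf_le_left).trans (cj_of_mem_normalizer (s.YP h1)).le
    refine (commutator_mono ((s.core hN h1 h2 hg).trans (sup_comm _ _).le) le_rfl).trans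
      (comm_sup_le hUN (h3.trans hN.norm) le_rfl ?_)
    have h4 := cj_le_iff_le_cj_inv.mp ((key _ (Y.inv_mem h1) _ h3).trans
      (show _ ≤ dS M P α by rwa [cj_inv_cj]))
    rw [inv_inv, cj_dS (s.YM h1) (s.YP h1)] at h4
    exact h4.trans ((hN.alt g₁ h1).resolve_left h2)

theorem core2 {q : ℕ} (hq : q.Prime) (hY : IsPGroup q Y) (hUM : U ≤ 𝒩(M)) (hUP : U ≤ 𝒩(P))
    (hUY : U ≤ 𝒩(Y)) (hUα : U ≤ 𝒞[α]) (hcop : (Nat.card (zpowers α)).Coprime (Nat.card U))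
    (hYU : Y ≤ ⁅Y, U⁆) (h : ⁅P ⊓ 𝒞[α], U⁆ ≤ dS M P α) (hN : HomN M P Y α N)
    (hα : α ∈ centMod P N) (hne : ¬ Y ≤ centMod P N) : dS M P α ≤ N := by
  set T := centMod P N ⊓ Y ⊔ ⁅Y, Y⁆
  have hTY : T ≤ Y := sup_le inf_le_right (der_le Y)
  have hYT : Y ≤ 𝒩(T) := le_norm_of_der_le hTY le_sup_right
  have hX := zpowers_le.mpr s.αY
  have hαT : zpowers α ≤ 𝒩(T) :=
    norm_sup (norm_inf ((zpowers_le.mpr hα).trans (le_norm_self _)) hX) (norm_der hX)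
  have hT : ¬ Y ≤ T := fun hc => hne ((le_of_le_sup_der hq hY inf_le_right hc).trans inf_le_left)
  have hJ : ∀ x ∈ Y, x ∉ T → dS M P (x * α * x⁻¹) ≤ N := fun x hx hxT =>
    (hN.alt x hx).resolve_left fun hc => hxT (by
      obtain ⟨n, hn, h1, -⟩ := exists_fix_of_conj_mem s.αY s.copY s.comm hα hx hc
      rw [show x = n * (x⁻¹ * n)⁻¹ by group]
      exact mul_mem_sup hn (inv_mem h1))
  obtain ⟨u, hu, huT⟩ := SetLike.not_le_iff_exists.mp fun hc : U ≤ centMod Y T =>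
    hT (hYU.trans ((commutator_mono le_rfl hc).trans (comm_centMod_le _ _)))
  have hc : ∀ a ∈ zpowers α, Commute u a := fun a ha =>
    (mem_cent_iff.mp (cent_zpowers α ▸ hUα hu) a ha).symm
  obtain ⟨g, hg, hB⟩ := exists_not_mem_of_index (Y := Y) (ι := Option (zpowers α))
    (fun o => o.elim T fun a => Y ⊓ cm1 (u * a) T)
    (by rw [Finite.card_option]; exact Nat.succ_le_succ s.prime.pos) (by
      rw [Finite.card_option]
      rintro (_ | ⟨a, ha⟩)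
      · exact lt_relIndex_of_fpf s.prime s.αY s.copY s.comm hTY le_sup_right
          (hαT (mem_zpowers α)) hT
      have hv : u * a ∈ 𝒩(Y) := mul_mem (hUY hu) (hX ha)
      refine lt_relIndex_of_fpf s.prime s.αY s.copY s.comm inf_le_left (fun y hy =>
        ⟨der_le Y hy, hYT (der_le Y hy), mem_sup_right (comm_le_left (norm_der (zpowers_le.mpr hv))
          (commutator_mem_commutator hy (mem_zpowers _)))⟩)
        (mem_normalizer_of_cj_le (cj_le_iff.mpr fun y hy =>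
          ⟨conj_mem_of_mem_normalizer s.αY hy.1, hYT (conj_mem_of_mem_normalizer s.αY hy.1), ?_⟩))
        fun hle => huT ?_
      · have e : Commute α (u * a) := (hc α (mem_zpowers α)).symm.mul_right
          (mem_cent1_iff.mp (zpowers_le.mpr (mem_cent1_self α) ha)).symm
        convert conj_mem_of_mem_normalizer (hαT (mem_zpowers α)) hy.2.2 using 1
        rw [conjugate_commutatorElement, e.mul_inv_cancel]
      · have h1 : ∀ y ∈ Y, ⁅u * a, y⁆ ∈ T := fun y hy =>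
          commutatorElement_inv y (u * a) ▸ inv_mem (hle hy).2.2
        have h2 : u * a ∈ centMod Y T := ⟨mem_normalizer_of_cj_le (cj_le_iff.mpr fun y hy => by
          simpa [commutatorElement_def] using mul_mem (h1 y (hTY hy)) hy), h1⟩
        by_cases ha1 : a = 1
        · simpa [ha1] using h2
        have h3 := pow_mem h2 (Nat.card U)
        rw [(hc a ha).mul_pow, show u ^ Nat.card U = 1 from
          congrArg Subtype.val (pow_card_eq_one' (x := (⟨u, hu⟩ : U))), one_mul] at h3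
        have h4 := zpowers_le.mpr h3
        rw [zpowers_pow_eq (hcop.coprime_dvd_left (orderOf_dvd_natCard _ ha)),
          zpowers_eq_of_card_prime s.prime ha ha1] at h4
        exact absurd (s.comm.trans ((commutator_mono le_rfl h4).trans (comm_centMod_le _ _))) hT)
  have s' := s.conj hg
  have h1 := hJ g hg (hB none)
  set P₀ := P ⊓ ⨅ a : zpowers α, cj (g * (u * a) * g⁻¹)⁻¹ N
  have hm : ∀ x, x ∈ P₀ ↔ x ∈ P ∧ ∀ a ∈ zpowers α,
      g * (u * a) * g⁻¹ * x * (g * (u * a) * g⁻¹)⁻¹ ∈ N := fun x => by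
    simp only [P₀, mem_inf, mem_iInf, mem_cj, Subtype.forall, inv_inv]
  intro d hd
  obtain ⟨e, he, h2⟩ := s'.exists_norm' (hN.conj hg) (fun hc => hB none (by
      obtain ⟨n, hn, h1, -⟩ := exists_fix_of_conj_mem s.αY s.copY s.comm hα hg hc
      rw [show g = n * (g⁻¹ * n)⁻¹ by group]
      exact mul_mem_sup hn (inv_mem h1))) (Y.inv_mem hg) (by simpa [mul_assoc])
    (P₀ := P₀) inf_le_left (mem_normalizer_of_cj_le (cj_le_iff.mpr fun x hx => (hm _).mpr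
      ⟨conj_mem_of_mem_normalizer s'.αP hx.1, fun a ha => by
        simpa [mul_assoc] using ((hm x).mp hx).2 _ (mul_mem ha (mem_zpowers α))⟩))
    (d := d) (by simpa [mul_assoc]) ((hm d).mpr ⟨hd.1, fun a ha => by
      have hv : u * a ∈ 𝒩(Y) := mul_mem (hUY hu) (hX ha)
      have hx := comm_le_left (zpowers_le.mpr hv) (commutator_mem_commutator hg (mem_zpowers _))
      refine hJ _ hx (fun hc => hB (some ⟨a, ha⟩) ⟨hg, hYT hg, hc⟩) ?_
      have e : Commute (u * a) α := (hc α (mem_zpowers α)).mul_left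
          (mem_cent1_iff.mp (zpowers_le.mpr (mem_cent1_self α) ha))
      have n : ∀ {H : Subgroup G}, Y ≤ 𝒩(H) → U ≤ 𝒩(H) → α ∈ 𝒩(H) →
          g * (u * a) * g⁻¹ ∈ 𝒩(H) := fun h1 h2 h3 =>
        mul_mem (mul_mem (h1 hg) (mul_mem (h2 hu) (zpowers_le.mpr h3 ha))) (inv_mem (h1 hg))
      have := (cj_dS (n s.YM hUM s.αM) (n s.YP hUP s.αP) α).le (conj_mem_cj.mpr hd)
      convert this using 2
      conv_lhs => rw [← e.mul_inv_cancel]
      simp only [commutatorElement_def]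
      group⟩)
  have h3 := ((hm e).mp he.1).2 1 (one_mem _)
  have h4 : ⁅e, g * u * g⁻¹⁆ ∈ N := by
    refine h1 ((cj_dS (s.YM hg) (s.YP hg) α).le (cj_mono g h ?_))
    rw [cj_commutator, cj_inf_cent1 (s.YP hg)]
    exact commutator_mem_commutator ⟨he.1.1, he.2⟩ (conj_mem_cj.mpr hu)
  have h5 : e ∈ N := by simpa [commutatorElement_def, mul_assoc] using mul_mem h4 h3
  simpa using mul_mem h5 (inv_mem h2)

theorem sl2 {q : ℕ} (hq : q.Prime) (hY : IsPGroup q Y) (hUM : U ≤ 𝒩(M)) (hUP : U ≤ 𝒩(P))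
    (hUY : U ≤ 𝒩(Y)) (hUα : U ≤ 𝒞[α]) (hcop : (Nat.card (zpowers α)).Coprime (Nat.card U))
    (hYU : Y ≤ ⁅Y, U⁆) (h : ⁅P ⊓ 𝒞[α], U⁆ ≤ dS M P α) : dS M P α ≤ 𝒞(Y) := by
  refine s.supp (U := ⊥) bot_le bot_le (fun _ _ => bot_le) inf_le_left
    fun N hN _ ⟨g₁, h1, h2⟩ g hg => ?_
  rw [cj_dS (s.YM hg) (s.YP hg)]
  refine (hN.alt g hg).elim (fun hc => ?_) id
  have n : ∀ {H : Subgroup G}, Y ≤ 𝒩(H) → U ≤ 𝒩(H) → cj g U ≤ 𝒩(H) := fun h1 h2 =>
    (cj_mono g h2).trans (cj_of_mem (h1 hg)).le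
  refine (s.conj hg).core2 hq hY (n s.YM hUM) (n s.YP hUP) (n (le_norm_self Y) hUY)
    (cj_centralizer_singleton g α ▸ cj_mono g hUα) (by rwa [← cj_zpowers, card_cj, card_cj])
    (by conv => rw [← cj_of_mem hg, ← cj_commutator, cj_le_cj]
        exact hYU)
    (by rw [← cj_inf_cent1 (s.YP hg), ← cj_commutator, ← cj_dS (s.YM hg) (s.YP hg)]
        exact cj_mono g h) (hN.conj hg) hc fun hle => h2 ?_
  simpa [mul_assoc] using conj_mem_of_mem_normalizer (le_norm_self _ (hle (Y.mul_mem h1 (Y.inv_mem hg)))) hc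

end SS

end Cfsg.Agent.FH
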