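import Mathlib
import Cfsg.Agent.FH.Supp

/-! The exceptional case of the Hall-Higman-Shult theorem inside a tower, and the reduction step. -/

set_option autoImplicit false

namespace Cfsg.Agent.FH
open Cfsg.Agent.FT Cfsg.Agent.PLocal.CommMod Subgroup
open scoped commutatorElement

universe u

variable {G : Type u} [Group G]

theorem elem_of_le {l : ℕ} {M W : Subgroup G} (h : IsElementaryAbelian l M) (hW : W ≤ M) :
    IsElementaryAbelian l W := ⟨abelian_of_le hW h.1, fun a ha => h.2 a (hW ha)⟩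

theorem elem_pgroup {l : ℕ} {M : Subgroup G} (h : IsElementaryAbelian l M) : IsPGroup l M :=
  fun x => ⟨1, Subtype.ext (by simpa using h.2 x x.2)⟩

theorem norm_zp {B : Subgroup G} {α : G} (h : B ≤ 𝒞[α]) : B ≤ 𝒩(zpowers α) :=
  (cent_zpowers α ▸ h :).trans (cent_le_norm _)

theorem idx_two {P K X : Subgroup G} (hcls : ⁅P, P⁆ ≤ 𝒞(P)) (hPK : P ≤ 𝒩(K))
    (h2 : ∀ z ∈ ⁅P, P⁆, ∀ w ∈ ⁅P, P⁆, z ∉ K → w ∉ K → z * w ∈ K) (hX : X ≤ P) {a b : G}
    (ha : a ∈ P) (hb : b ∈ X) (hab : ⁅b, a⁆ ∉ K) :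
    (X ⊓ cm1 a K).relIndex X = 2 ∧ X ≤ (X ⊓ cm1 a K) ⊔ zpowers b := by
  have key : ∀ x ∈ X, Xor (x * b ∈ X ⊓ cm1 a K) (x ∈ X ⊓ cm1 a K) := fun x hx => by
    have hz := commutator_mem_commutator (hX hb) ha
    have e : ⁅x * b, a⁆ = ⁅b, a⁆ * ⁅x, a⁆ := by
      rw [commutatorElement_mul_left_eq_conj_mul, hcls hz x (hX hx), mul_inv_cancel_right]
    by_cases h : ⁅x, a⁆ ∈ K
    · exact Or.inr ⟨⟨hx, hPK (hX hx), h⟩, fun h' => hab ((K.mul_mem_cancel_right h).mp (e ▸ h'.2.2))⟩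
    · exact Or.inl ⟨⟨X.mul_mem hx hb, hPK (hX (X.mul_mem hx hb)),
        e ▸ h2 _ hz _ (commutator_mem_commutator (hX hx) ha) hab h⟩, fun h' => h h'.2.2⟩
  refine ⟨relIndex_eq_two_iff.mpr ⟨b, hb, key⟩, fun x hx => ?_⟩
  rcases key x hx with h | h
  · rw [← mul_inv_cancel_right x b]
    exact mul_mem_sup h.1 (inv_mem (mem_zpowers b))
  · exact mem_sup_left h.1

variable [Finite G]

theorem even_index {P K : Subgroup G} (hcls : ⁅P, P⁆ ≤ 𝒞(P)) (hPK : P ≤ 𝒩(K))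
    (h2 : ∀ z ∈ ⁅P, P⁆, ∀ w ∈ ⁅P, P⁆, z ∉ K → w ∉ K → z * w ∈ K) {X : Subgroup G} (hX : X ≤ P) :
    ∃ k, (X ⊓ centMod X K).relIndex X = 2 ^ (2 * k) := by
  induction X using WellFoundedLT.induction with | ind X ih => ?_
  by_cases h : ⁅X, X⁆ ≤ K
  · exact ⟨0, relIndex_eq_one.mpr (le_inf le_rfl (le_centMod.mpr ⟨hX.trans hPK, h⟩))⟩
  rw [commutator_le] at h
  push Not at h
  obtain ⟨a, ha, b, hb, hab⟩ := h
  obtain ⟨i1, j1⟩ := idx_two hcls hPK h2 hX (hX ha) hb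
    fun h => hab (commutatorElement_inv b a ▸ K.inv_mem h)
  obtain ⟨i2, j2⟩ := idx_two hcls hPK h2 (inf_le_left.trans hX) (hX hb)
    (show a ∈ X ⊓ cm1 a K from ⟨ha, hPK (hX ha), by simp⟩) hab
  set X₁ := X ⊓ cm1 a K ⊓ cm1 b K
  have h1 : X₁ ≤ X := inf_le_left.trans inf_le_left
  obtain ⟨k, hk⟩ := ih X₁ (lt_of_le_of_ne h1 fun e => hab (e.ge ha).2.2) (h1.trans hX)
  have e : X ⊓ centMod X K = X₁ ⊓ centMod X₁ K := by
    refine le_antisymm (fun t ht => ⟨⟨⟨ht.1, ht.2.1, ht.2.2 a ha⟩, ht.2.1, ht.2.2 b hb⟩,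
      centMod_anti h1 K ht.2⟩) fun t ht => ⟨h1 ht.1, ht.2.1, fun y hy => ?_⟩
    have i : ∀ {y}, y ∈ X → ⁅t, y⁆ ∈ K → y ∈ cm1 t K := fun hy h =>
      ⟨hPK (hX hy), commutatorElement_inv t _ ▸ K.inv_mem h⟩
    have : X ≤ cm1 t K := j1.trans (sup_le (j2.trans (sup_le (fun y hy => i (h1 hy) (ht.2.2 y hy))
      (zpowers_le.mpr (i ha ht.1.1.2.2)))) (zpowers_le.mpr (i hb ht.1.2.2)))
    exact commutatorElement_inv y t ▸ K.inv_mem (this hy).2
  refine ⟨k + 1, ?_⟩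
  rw [e, ← relIndex_mul_relIndex _ _ _ inf_le_left h1, hk,
    ← relIndex_mul_relIndex X₁ _ X inf_le_left inf_le_left, i1, i2]
  ring

theorem sq_lt_two_pow (m : ℕ) : m ^ 2 < 2 ^ (m + 1) := by
  induction m with
  | zero => simp
  | succ m ih => have := m.lt_two_pow_self; rw [pow_succ 2, pow_succ 2] at *; nlinarith

theorem rad_le {P K X : Subgroup G} (hs : Group.IsSolvable P) (hPK : P ≤ 𝒩(K)) (hX : X ≤ 𝒩(P))
    (hXK : X ≤ 𝒩(K)) (hcop : (Nat.card X).Coprime (Nat.card P)) (h : ⁅⁅P, P⁆, X⁆ ≤ K) {T : Subgroup G}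
    (hT : T ≤ ⁅P, X⁆) (h1 : ⁅⁅P, X⁆, T⁆ ≤ K) : T ≤ P ⊓ centMod P K := by
  have h2 := comm_le_left hX
  refine le_inf (hT.trans h2) ((le_centMod' (hT.trans (h2.trans hPK))).mpr ?_)
  rw [← Solv.coprime_commutator_sup_centralizer X P hX hcop (Or.inr hs)]
  refine commutator_sup_le (h2.trans hPK) (inf_le_left.trans hPK) h1
    ((commutator_mono le_rfl hT).trans ((commutator_comm _ _).le.trans ?_))
  exact three_subgroups_mod hPK hXK (inf_le_left.trans hPK)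
    (by rw [commutator_comm X, comm_eq_bot_iff.mpr inf_le_right, commutator_bot_left]; exact bot_le)
    ((commutator_mono (commutator_mono inf_le_left le_rfl) le_rfl).trans h)

theorem le_rad {P K : Subgroup G} {α : G} {q : ℕ} (hP : IsPGroup 2 P) (hcls : ⁅P, P⁆ ≤ 𝒞(P))
    (hpow : ∀ x ∈ P, x ^ 2 ∈ ⁅P, P⁆) (hK : K ≤ ⁅P, P⁆)
    (h2 : ∀ z ∈ ⁅P, P⁆, ∀ w ∈ ⁅P, P⁆, z ∉ K → w ∉ K → z * w ∈ K)
    (hr : (Nat.card (zpowers α)).Prime) (hr2 : Nat.card (zpowers α) ≠ 2) (hαP : α ∈ 𝒩(P))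
    (hα : ⁅⁅P, P⁆, zpowers α⁆ ≤ K)
    (hidx : (P ⊓ centMod P K).relIndex ⁅P, zpowers α⁆ < 2 ^ Nat.card (zpowers α))
    (hq : q.Prime) (hq2 : q ≠ 2) (hqr : Nat.card (zpowers α) ≠ q) {R : Subgroup G}
    (hR : IsPGroup q R) (hRP : R ≤ 𝒩(P)) (hαR : α ∈ 𝒩(R)) (hc : ⁅P, P⁆ ≤ 𝒞(R)) :
    ⁅P, ⁅R, zpowers α⁆⁆ ≤ P ⊓ centMod P K := by
  induction R using WellFoundedLT.induction with | ind R ih => ?_
  set A := zpowers α
  set Rd := P ⊓ centMod P K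
  have hA := zpowers_le.mpr hαR
  have hAP := zpowers_le.mpr hαP
  have hAr : IsPGroup (Nat.card A) A := IsPGroup.of_card (n := 1) (by simp)
  have hcop := coprime_pgroup hr hq hqr hAr hR
  have hcopP := coprime_pgroup hr Nat.prime_two hr2 hAr hP
  have hcopR := coprime_pgroup hq Nat.prime_two hq2 hR hP
  have hs := solv_pgroup Nat.prime_two hP
  have ih' : ∀ S < R, A ≤ 𝒩(S) → ⁅P, ⁅S, A⁆⁆ ≤ Rd := fun S hS hAS =>
    ih S hS (hR.to_le hS.le) (hS.le.trans hRP) (hAS (mem_zpowers α)) (hc.trans (cent_anti hS.le))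
  rcases (comm_le_left hA).lt_or_eq with hlt | heq
  · exact (commutator_mono le_rfl (comm_comm_eq hA hcop (Or.inl (solv_cyc _)))).trans
      (ih' _ hlt (Solv.le_normalizer_commutator_right _ _))
  rw [heq]
  by_cases h0 : R = ⊥
  · rw [h0, commutator_bot_right]; exact bot_le
  have hPK : P ≤ 𝒩(K) := le_norm_of_le_cent (le_cent_comm.mp (hK.trans hcls))
  have hRK : R ≤ 𝒩(K) := le_norm_of_le_cent (le_cent_comm.mp (hK.trans hc))
  have hAK : A ≤ 𝒩(K) := le_norm_of_comm_le ((commutator_mono hK le_rfl).trans hα)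
  have hd : ⁅P, P⁆ ≤ Rd := le_inf (der_le P) (le_centMod.mpr ⟨(der_le P).trans hPK,
    (comm_eq_bot_iff.mpr hcls).le.trans bot_le⟩)
  have hLP : R ⊔ A ≤ 𝒩(P) := sup_le hRP hAP
  have hsec : Sec 2 P Rd (R ⊔ A) := ⟨Nat.prime_two, inf_le_left, le_norm_of_der_le inf_le_left hd,
    hd, fun x hx => hd (hpow x hx), hLP, norm_inf hLP (norm_centMod hLP (sup_le hRK hAK))⟩
  have hKn := hsec.norm_cm
  have hZL : ⁅R, R⁆ ≤ R ⊔ A := (der_le R).trans le_sup_left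
  have h1 : ⁅⁅R, R⁆, A⁆ ≤ centMod P Rd :=
    (le_centMod' (((comm_le_left (norm_der hA)).trans hZL).trans hsec.LN)).mpr
      (ih' _ (comm_lt_pgroup hq hR hR (le_norm_self R) h0) (norm_der hA))
  have h3 : ⁅R, ⁅R, R⁆⁆ ≤ centMod P Rd := by
    have := three_subgroups_mod (H₁ := A) (H₂ := R) (H₃ := ⁅R, R⁆) (le_sup_right.trans hKn)
      (le_sup_left.trans hKn) (hZL.trans hKn)
      ((commutator_mono (comm_le_right (norm_der (le_norm_self R))) le_rfl).trans h1)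
      ((commutator_mono h1 le_rfl).trans (comm_le_left (le_sup_left.trans hKn)))
    rwa [commutator_comm A, heq] at this
  have hP2 : ⁅P, R⁆ ≤ P := comm_le_left hRP
  have hL2 : R ⊔ A ≤ 𝒩(⁅P, R⁆) := norm_comm hLP (sup_le (le_norm_self R) hA)
  have hsec2 := hsec.sub hP2 le_rfl inf_le_left hL2 (norm_inf hL2 hsec.LN)
  have hm : ∀ X ≤ R ⊔ A, X ≤ centMod P Rd → X ≤ centMod ⁅P, R⁆ (⁅P, R⁆ ⊓ Rd) := fun X h4 h5 =>
    (le_centMod' (h4.trans hsec2.LN)).mpr (le_inf (comm_le_left (h4.trans hL2))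
      ((commutator_mono hP2 h5).trans (comm_centMod_le _ _)))
  have hcc := comm_comm_eq hRP hcopR (Or.inr hs)
  by_contra hne
  have h4 := hsec2.od hq hq2 hR hr hr2 (by rw [Nat.card_zpowers, pow_orderOf_eq_one]) hαR
    (not_dvd_pgroup Nat.prime_two hq hq2.symm hR)
    (hm _ ((comm_le_left ((der_le R).trans (le_norm_self R))).trans le_sup_left) h3)
    (hm _ ((comm_le_right (norm_der hA)).trans hZL) ((commutator_comm _ _).le.trans h1)) heq.ge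
    (centMod_le_of_le_comm inf_le_left hsec2.der (le_sup_left.trans hL2)
      (le_sup_left.trans hsec2.LN) (cop_le hcopR le_rfl hP2) (hcc.trans le_sup_left))
    (fun h => hne ((hcc.trans h).trans inf_le_right)) (lt_of_le_of_lt ?_ hidx)
  · obtain ⟨k, hk⟩ := even_index hcls hPK h2 hP2
    rw [le_antisymm (le_inf inf_le_left (rad_le hs hPK hRP hRK hcopR
      ((comm_eq_bot_iff.mpr hc).le.trans bot_le) inf_le_left ((commutator_mono le_rfl
        inf_le_right).trans (comm_centMod_le _ _))))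
      (inf_le_inf_left _ (inf_le_right.trans (centMod_anti hP2 K))), h4] at hk
    exact hr2 ((Nat.prime_dvd_prime_iff_eq Nat.prime_two hr).mp
      ⟨k, Nat.pow_right_injective le_rfl hk⟩).symm
  · set E := P ⊓ centMod A Rd
    have hRE : Rd ≤ E := le_inf inf_le_left (le_centMod_self (le_sup_right.trans hsec.LN))
    have := NormIn.normal (H := E) ⟨inf_le_left, le_norm_of_der_le inf_le_left (hd.trans hRE)⟩
    have hY : ⁅P, A⁆ ≤ P := comm_le_left hAP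
    calc _ ≤ (⁅P, R⁆ ⊓ E).relIndex ⁅P, R⁆ := relIndex_le_of_le_left (le_inf inf_le_left
            (le_centMod.mpr ⟨inf_le_left.trans hsec2.norm, le_inf ((commutator_mono inf_le_left
              le_rfl).trans (comm_le_left (le_sup_right.trans hL2))) ((commutator_mono
                (inf_le_right.trans inf_le_right) le_rfl).trans (commutator_centMod_le _ _))⟩))
            index_ne_zero_of_finite
      _ ≤ E.relIndex P := by
          rw [inf_relIndex_left]; exact relIndex_le_of_le_right hP2 index_ne_zero_of_finite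
      _ = E.relIndex ⁅P, A⁆ := by
          rw [← Qt.card_eq_relIndex (L := P) le_rfl, ← Qt.card_eq_relIndex (L := P) hY,
            le_antisymm ((Qt.le_iff inf_le_left le_rfl hY).mpr ?_) (Qt.mono hY)]
          exact (Solv.coprime_commutator_sup_centralizer A P hAP hcopP (Or.inr hs)).ge.trans
            (sup_le le_sup_right ((le_inf inf_le_left (cent_le_centMod hsec.norm)).trans le_sup_left))
      _ ≤ _ := relIndex_le_of_le_left hRE index_ne_zero_of_finite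

theorem pgroup_zp {α : G} : IsPGroup (Nat.card (zpowers α)) (zpowers α) :=
  IsPGroup.of_card (n := 1) (by simp)

theorem frob_elem {l : ℕ} (hl : l.Prime) {W Z : Subgroup G} {α : G} (hW : IsElementaryAbelian l W)
    (hr : (Nat.card (zpowers α)).Prime) (hZW : Z ≤ 𝒩(W)) (hαW : α ∈ 𝒩(W)) (hαZ : α ∈ 𝒩(Z))
    (hlZ : ¬ l ∣ Nat.card Z) (hc : ⁅Z, Z⁆ ≤ 𝒞(W)) (hZ : Z ≤ ⁅Z, zpowers α⁆)
    (hfix : W ⊓ 𝒞[α] = ⊥) : Z ≤ 𝒞(W) := by
  have h := Sec.of_elem hl hW (sup_le hZW (zpowers_le.mpr hαW))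
  refine le_cent_comm.mp (comm_eq_bot_iff.mp (le_bot_iff.mp (h.frob1 (by rwa [← Nat.card_zpowers])
    le_sup_left (mem_sup_right (mem_zpowers α)) hαZ hlZ
    (comm_eq_bot_iff.mpr (le_cent_comm.mp hc)).le hZ ?_)))
  rw [centMod_bot, cent_zpowers, hfix]

theorem exc {l p q : ℕ} (hl : l.Prime) (hp : p.Prime) (hq : q.Prime) (hlp : l ≠ p) (hqp : q ≠ p)
    {W P R : Subgroup G} {α : G} (hW : IsElementaryAbelian l W) (hP : IsPGroup p P)
    (hcls : ⁅P, P⁆ ≤ 𝒞(P)) (hpow : ∀ x ∈ P, x ^ p ∈ ⁅P, P⁆) (hr : (Nat.card (zpowers α)).Prime)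
    (hrl : Nat.card (zpowers α) ≠ l) (hrp : Nat.card (zpowers α) ≠ p)
    (hrq : Nat.card (zpowers α) ≠ q) (hαP : α ∈ 𝒩(P)) (hR : IsPGroup q R) (hRP : R ≤ 𝒩(P))
    (hαR : α ∈ 𝒩(R)) (hc : ⁅P, P⁆ ≤ 𝒞(R)) (hYW : ⁅P, zpowers α⁆ ≤ 𝒩(W)) (hαW : α ∈ 𝒩(W))
    (hfix : W ⊓ 𝒞[α] = ⊥) : ⁅⁅P, ⁅R, zpowers α⁆⁆, zpowers α⁆ ≤ 𝒞(W) := by
  set A := zpowers α
  set Y := ⁅P, A⁆
  have hAP := zpowers_le.mpr hαP
  have hYP : Y ≤ P := comm_le_left hAP
  have hAY : A ≤ 𝒩(Y) := Solv.le_normalizer_commutator_right _ _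
  have hcop := coprime_pgroup hr hp hrp pgroup_zp hP
  have hs := solv_pgroup hp hP
  have hlP := not_dvd_pgroup hl hp hlp hP
  have hl' : ∀ X ≤ P, ¬ l ∣ Nat.card X := fun X hX h => hlP (h.trans (card_dvd_of_le hX))
  have h3 : ⁅P, ⁅R, A⁆⁆ ≤ P := comm_le_left ((comm_le_left (zpowers_le.mpr hαR)).trans hRP)
  have hA3 : A ≤ 𝒩(⁅P, ⁅R, A⁆⁆) := norm_comm hAP (Solv.le_normalizer_commutator_right _ _)
  set B := ⁅⁅P, ⁅R, A⁆⁆, A⁆
  have hBY : B ≤ Y := commutator_mono h3 le_rfl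
  have hYY := comm_comm_eq hAP hcop (Or.inr hs)
  by_cases hp2 : p ≠ 2
  · exact hBY.trans (hYY.trans (hall_higman hl hr hAY (cop_le hcop le_rfl hYP).symm
      (fun Q hQ h2 _ => by
        rw [pgroup_eq_bot Nat.prime_two h2 (hQ.trans hYP)
          (not_dvd_pgroup Nat.prime_two hp hp2.symm hP)]
        infer_instance) hW hYW (zpowers_le.mpr hαW) (hl' Y hYP)
      (fun h => hrl ((Nat.prime_dvd_prime_iff_eq hl hr).mp h).symm) (by rwa [cent_zpowers])))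
  obtain rfl : p = 2 := not_not.mp hp2
  have hAB : A ≤ 𝒩(B) := Solv.le_normalizer_commutator_right _ _
  refine frob_elem hl hW hr (hBY.trans hYW) hαW (hAB (mem_zpowers α)) (hl' _ (hBY.trans hYP)) ?_
    (comm_comm_eq hA3 (cop_le hcop le_rfl h3) (Or.inl (solv_cyc α))) hfix
  by_contra hne
  have hZ : ⁅⁅P, P⁆, A⁆ ≤ ⁅P, P⁆ := comm_le_left (norm_der hAP)
  have hY2 : ⁅⁅P, P⁆, A⁆ ≤ Y := commutator_mono (der_le P) le_rfl
  have h4 : ⁅⁅P, P⁆, A⁆ ≤ 𝒞(W) := frob_elem hl hW hr (hY2.trans hYW) hαW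
    (Solv.le_normalizer_commutator_right _ _ (mem_zpowers α)) (hl' _ (hY2.trans hYP))
    ((comm_eq_bot_iff.mpr (hZ.trans (hcls.trans (cent_anti (hY2.trans hYP))))).le.trans bot_le)
    (comm_comm_eq (norm_der hAP) (cop_le hcop le_rfl (der_le P)) (Or.inl (solv_cyc α))) hfix
  have hBB : ⁅B, B⁆ ≤ ⁅P, P⁆ := der_mono (hBY.trans hYP)
  have hαr : α ^ Nat.card A = 1 := by rw [Nat.card_zpowers, pow_orderOf_eq_one]
  obtain ⟨K, Z, k1, k2, k3, k4⟩ := (Sec.of_elem hl hW (sup_le hYW (zpowers_le.mpr hαW))).hh0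
    (A := ⁅B, B⁆) hr.two_le hαr (hAY (mem_zpowers α)) (hl' Y hYP) ((der_le B).trans hBY)
    (le_norm_of_le_cent (hYP.trans (le_cent_comm.mp (hBB.trans hcls))))
    (norm_der hAB (mem_zpowers α))
    (fun h => hne (le_cent_comm.mp (comm_eq_bot_iff.mp (le_bot_iff.mp h))))
    ((comm_eq_bot_iff.mpr (hYP.trans (le_cent_comm.mp ((der_mono hYP).trans hcls)))).le.trans bot_le)
    (by rw [centMod_bot, commutator_comm]; exact (commutator_mono (der_mono hYP) le_rfl).trans h4)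
    (fun k h1 h2 => free_of_prime hr hαr hYY (Nat.not_dvd_of_pos_of_lt h1 h2))
    (by rw [centMod_bot, cent_zpowers, hfix])
  obtain ⟨a, ha, haK⟩ := SetLike.not_le_iff_exists.mp k2
  obtain ⟨K₁, hK₁, ⟨c1, c2⟩, hmax⟩ := exists_maximal_ge_of_wellFoundedGT
    (fun X : Subgroup G => X ≤ ⁅P, P⁆ ∧ a ∉ X) (K ⊓ ⁅P, P⁆) ⟨inf_le_right, fun h => haK h.1⟩
  have hcomm : ∀ z ∈ ⁅P, P⁆, ∀ x ∈ P, Commute x z := fun z hz x hx => hcls hz x hx
  have hsq : ∀ z ∈ ⁅P, P⁆, z * z = 1 := by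
    let E : Subgroup G :=
      { carrier := {z | z ∈ ⁅P, P⁆ ∧ z * z = 1}
        one_mem' := ⟨one_mem _, mul_one 1⟩
        mul_mem' := fun {x y} hx hy => ⟨mul_mem hx.1 hy.1, by
          rw [(hcomm y hy.1 x (der_le P hx.1)).symm.mul_mul_mul_comm, hx.2, hy.2, mul_one]⟩
        inv_mem' := fun {x} hx => ⟨inv_mem hx.1, by rw [← mul_inv_rev, hx.2, inv_one]⟩ }
    refine fun z hz => ((commutator_le.mpr fun x hx y hy => ⟨commutator_mem_commutator hx hy, ?_⟩ :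
      ⁅P, P⁆ ≤ E) hz).2
    have := commutatorElement_eq_one_iff_commute.mpr (hcomm _ (hpow x hx) y hy).symm
    rwa [sq, commutatorElement_mul_left_eq_conj_mul,
      (hcomm _ (commutator_mem_commutator hx hy) x hx).eq, mul_inv_cancel_right] at this
  have h5 : ∀ z ∈ ⁅P, P⁆, z ∉ K₁ → a * z ∈ K₁ := fun z hz hzK => by
    have hzn : zpowers z ≤ 𝒩(K₁) := le_norm_of_le_cent (zpowers_le.mpr fun x hx =>
      hcomm z hz x (der_le P (c1 hx)))
    by_contra hc'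
    refine hzK (hmax (y := K₁ ⊔ zpowers z) ⟨sup_le c1 (zpowers_le.mpr hz), fun h => ?_⟩
      le_sup_left (mem_sup_right (mem_zpowers z)))
    obtain ⟨k, hk, _, ⟨i, rfl⟩, e⟩ := (mem_sup_norm hzn).mp h
    have e2 : z ^ (2 : ℤ) = 1 := by rw [zpow_two, hsq z hz]
    obtain ⟨j, rfl | rfl⟩ := Int.even_or_odd' i
    · exact c2 (by simpa [← e, zpow_mul, e2] using hk)
    · exact hc' (by simpa [← e, zpow_add, zpow_mul, e2, mul_assoc, hsq z hz] using hk)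
  have h6 : ⁅⁅P, P⁆, A⁆ ≤ K₁ :=
    (le_inf ((le_inf (hY2.trans le_sup_left) (centMod_bot W ▸ h4)).trans k1) hZ).trans hK₁
  have hPK : P ≤ 𝒩(K₁) := le_norm_of_le_cent (le_cent_comm.mp (c1.trans hcls))
  have h7 := le_rad hP hcls hpow c1 (fun z hz w hw h1 h2 => by
      have := K₁.mul_mem (h5 z hz h1) (h5 w hw h2)
      rwa [(hcomm _ hz a (der_le P (hBB ha))).eq, mul_assoc, ← mul_assoc a, hsq a (hBB ha),
        one_mul] at this) hr hrp hαP h6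
    (lt_of_le_of_lt (relIndex_le_of_le_left (H := Z) ?_ index_ne_zero_of_finite) ?_) hq hqp hrq hR hRP hαR hc
  · exact c2 ((commutator_mono (hBY.trans hYP) ((comm_le_left hA3).trans (h7.trans inf_le_right))).trans
      (comm_centMod_le _ _) ha)
  · have hZY : Z ≤ Y := fun t ht => ((k3 t).mp ht).1
    exact rad_le hs hPK hAP (le_norm_of_comm_le ((commutator_mono c1 le_rfl).trans h6)) hcop h6 hZY
      (commutator_le.mpr fun y hy t ht => hK₁ ⟨((k3 t).mp ht).2 y hy,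
        commutator_mem_commutator (hYP hy) (hYP (hZY ht))⟩)
  · rw [← k4]
    simpa only [Nat.sub_add_cancel hr.pos] using sq_lt_two_pow (Nat.card A - 1)

/-- The subgroup carrying the induction in the tower. -/
def Zs (P Y U : Subgroup G) (α : G) : Subgroup G := ⁅⁅P ⊓ 𝒞(⁅Y, U⁆), Y⁆ ⊓ 𝒞[α], U⁆

theorem m4 {M Y U : Subgroup G} {α : G} [IsMulCommutative M] (hY : Y ≤ 𝒩(M)) (hU : U ≤ 𝒩(M))
    (hYU : Y ≤ 𝒞(U)) (hcU : (Nat.card U).Coprime (Nat.card M))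
    (hcY : (Nat.card Y).Coprime (Nat.card M)) (h : Zs M Y U α = ⊥) :
    ⁅⁅M, Y⁆, U⁆ ⊓ 𝒞[α] = ⊥ ∧ ∀ B ≤ Y, B ≤ 𝒞(⁅⁅M, Y⁆, U⁆) → U ≤ 𝒞(⁅M, B⁆) := by
  rw [Zs, comm_eq_bot_iff.mpr hYU, cent_bot, inf_top_eq, comm_eq_bot_iff] at h
  have h1 : ⁅M, Y⁆ ≤ M := comm_le_left hY
  have := abelian_of_le h1 ‹_›
  have h2 : U ≤ 𝒩(⁅M, Y⁆) := norm_comm hU (le_norm_of_le_cent (le_cent_comm.mp hYU))
  have h3 := cop_le hcU le_rfl h1
  have hs := Solv.isSolvable_of_isMulCommutative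
  refine ⟨eq_bot_iff.mpr (le_trans ?_ (Solv.coprime_centralizer_inf_commutator U _ h2 h3).le),
    fun B hB hc => le_cent_comm.mp ((comm_comm_eq (hB.trans hY) (cop_le hcY hB le_rfl)
      (Or.inr (hs _))).trans ((commutator_mono (commutator_mono le_rfl hB) le_rfl).trans ?_))⟩
  · exact le_inf (le_inf (inf_le_left.trans (comm_le_left h2))
      ((inf_le_inf_right _ (comm_le_left h2)).trans h)) inf_le_left
  · rw [← Solv.coprime_commutator_sup_centralizer U _ h2 h3 (Or.inr (hs _))]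
    exact (comm_sup_le (K := M ⊓ 𝒞(U)) (norm_inf (hB.trans hY) (hB.trans (hYU.trans (le_norm_self _))))
      (((comm_le_left h2).trans h1).trans (le_norm_of_abelian inf_le_left ‹_›))
      (inf_le_inf_right _ h1)
      ((comm_eq_bot_iff.mpr (le_cent_comm.mp hc)).le.trans bot_le)).trans inf_le_right

/-- A `p`-group acting faithfully on an elementary abelian `l`-group. -/
structure Hon (l p : ℕ) (M P : Subgroup G) : Prop where
  hl : l.Prime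
  hp : p.Prime
  ne : l ≠ p
  elem : IsElementaryAbelian l M
  pgrp : IsPGroup p P
  norm : P ≤ 𝒩(M)
  faith : P ⊓ 𝒞(M) = ⊥

theorem Hon.cop {l p : ℕ} {M P : Subgroup G} (h : Hon l p M P) :
    (Nat.card P).Coprime (Nat.card M) :=
  coprime_pgroup h.hp h.hl h.ne.symm h.pgrp (elem_pgroup h.elem)

theorem Hon.eq_bot {l p : ℕ} {M P X : Subgroup G} (h : Hon l p M P) (hX : X ≤ P)
    (hc : X ≤ 𝒞(⁅M, X⁆)) : X = ⊥ :=
  eq_bot_iff.mpr ((le_inf hX (le_cent_comm.mp (comm_eq_bot_iff.mp (Solv.coprime_commutator_eq_bot X M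
    (hX.trans h.norm) (cop_le h.cop hX le_rfl) (Or.inr (solv_pgroup h.hl (elem_pgroup h.elem)))
    (comm_eq_bot_iff.mpr (le_cent_comm.mp hc)))))).trans h.faith.le)

theorem red2 {l p q : ℕ} {M P R U : Subgroup G} {α : G} (h : Hon l p M P) (hq : q.Prime)
    (hqp : q ≠ p) (hcls : ⁅P, P⁆ ≤ 𝒞(P)) (hpow : ∀ x ∈ P, x ^ p ∈ ⁅P, P⁆)
    (hr : (Nat.card (zpowers α)).Prime) (hrl : Nat.card (zpowers α) ≠ l)
    (hrp : Nat.card (zpowers α) ≠ p) (hrq : Nat.card (zpowers α) ≠ q) (hαM : α ∈ 𝒩(M))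
    (hαP : α ∈ 𝒩(P)) (hR : IsPGroup q R) (hRP : R ≤ 𝒩(P)) (hαR : α ∈ 𝒩(R))
    (hc : ⁅P, P⁆ ≤ 𝒞(R)) (hU : U ≤ P) (hUα : U ≤ 𝒞[α]) (h1 : Zs M ⁅P, zpowers α⁆ U α = ⊥)
    (h2 : Zs M ⁅⁅P, P⁆, zpowers α⁆ U α = ⊥) :
    U ≤ 𝒞(⁅M, ⁅⁅P, ⁅R, zpowers α⁆⁆, zpowers α⁆⁆) := by
  set A := zpowers α
  have := h.elem.1
  have hAP := zpowers_le.mpr hαP
  have hAM := zpowers_le.mpr hαM
  have hAU : A ≤ 𝒩(U) := le_norm_of_le_cent (le_cent_comm.mp (cent_zpowers α ▸ hUα))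
  have hcop := coprime_pgroup hr h.hp hrp pgroup_zp h.pgrp
  have hW : ∀ Y ≤ P, ⁅⁅M, Y⁆, U⁆ ≤ M := fun Y hY => (commutator_mono (comm_le_left
    (hY.trans h.norm)) le_rfl).trans (comm_le_left (hU.trans h.norm))
  have hn : ∀ Y ≤ P, Y ≤ 𝒞(U) → Y ≤ 𝒩(⁅⁅M, Y⁆, U⁆) := fun Y _ hY =>
    norm_comm (Solv.le_normalizer_commutator_right _ _) (le_norm_of_le_cent hY)
  have hn' : ∀ Y : Subgroup G, α ∈ 𝒩(⁅⁅M, ⁅Y, A⁆⁆, U⁆) := fun Y =>
    norm_comm (norm_comm hAM (Solv.le_normalizer_commutator_right _ _)) hAU (mem_zpowers α)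
  have hZ : ⁅⁅P, P⁆, A⁆ ≤ ⁅P, P⁆ := comm_le_left (norm_der hAP)
  have hZP := hZ.trans (der_le P)
  have hZc := hZ.trans hcls
  have hZU := hZc.trans (cent_anti hU)
  obtain ⟨a1, a2⟩ := m4 (hZP.trans h.norm) (hU.trans h.norm) hZU (cop_le h.cop hU le_rfl)
    (cop_le h.cop hZP le_rfl) h2
  have h3 := a2 _ le_rfl (frob_elem h.hl (elem_of_le h.elem (hW _ hZP)) hr (hn _ hZP hZU) (hn' _)
    (Solv.le_normalizer_commutator_right _ _ (mem_zpowers α))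
    (not_dvd_pgroup h.hl h.hp h.ne (h.pgrp.to_le hZP))
    ((comm_eq_bot_iff.mpr (hZc.trans (cent_anti hZP))).le.trans bot_le)
    (comm_comm_eq (norm_der hAP) (cop_le hcop le_rfl (der_le P)) (Or.inl (solv_cyc α))) a1)
  have hYP : ⁅P, A⁆ ≤ P := comm_le_left hAP
  have hPZ : P ≤ 𝒩(⁅⁅P, P⁆, A⁆) := le_norm_of_le_cent (le_cent_comm.mp hZc)
  have h4 : ⁅⁅P, A⁆, U⁆ ≤ ⁅⁅P, P⁆, A⁆ := three_subgroups_mod hPZ
    (Solv.le_normalizer_commutator_right _ _) (hU.trans hPZ)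
    (by rw [commutator_comm A, comm_eq_bot_iff.mpr (hUα.trans (cent_zpowers α).ge),
          commutator_bot_left]
        exact bot_le) (commutator_mono (commutator_mono hU le_rfl) le_rfl)
  have h5 : ⁅P, A⁆ ≤ 𝒞(U) := comm_eq_bot_iff.mp (h.eq_bot (h4.trans hZP)
    ((commutator_mono le_rfl (h3.trans (cent_anti (commutator_mono le_rfl h4)))).trans
      (comm_le_right (norm_cent (norm_comm (hYP.trans h.norm)
        (Solv.le_normalizer_commutator_left _ _))))))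
  obtain ⟨b1, b2⟩ := m4 (hYP.trans h.norm) (hU.trans h.norm) h5 (cop_le h.cop hU le_rfl)
    (cop_le h.cop hYP le_rfl) h1
  exact b2 _ (commutator_mono (comm_le_left ((comm_le_left (zpowers_le.mpr hαR)).trans hRP)) le_rfl)
    (exc h.hl h.hp hq h.ne hqp (elem_of_le h.elem (hW _ hYP)) h.pgrp hcls hpow hr hrl hrp hrq hαP hR
      hRP hαR hc (hn _ hYP h5) (hn' _) b1)

end Cfsg.Agent.FH
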