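import Mathlib
import Cfsg.Agent.FH.Exc

/-! The inductive step and the starting configurations, for honest (faithful) actions. -/

set_option autoImplicit false

namespace Cfsg.Agent.FH
open Cfsg.Agent.FT Cfsg.Agent.PLocal.CommMod Subgroup
open scoped commutatorElement

universe u

variable {G : Type u} [Group G] [Finite G]

/-- Three consecutive levels `R`, `P`, `M` of a minimal tower with an operator `α`. -/
structure Tri (l p q : ℕ) (M P R : Subgroup G) (α : G) : Prop extends Hon l p M P where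
  hq : q.Prime
  qp : q ≠ p
  cls : ⁅P, P⁆ ≤ 𝒞(P)
  pow : ∀ x ∈ P, x ^ p ∈ ⁅P, P⁆
  hr : (Nat.card (zpowers α)).Prime
  rl : Nat.card (zpowers α) ≠ l
  rp : Nat.card (zpowers α) ≠ p
  rq : Nat.card (zpowers α) ≠ q
  αM : α ∈ 𝒩(M)
  αP : α ∈ 𝒩(P)
  αR : α ∈ 𝒩(R)
  Rp : IsPGroup q R
  RM : R ≤ 𝒩(M)
  RP : R ≤ 𝒩(P)
  Rc : ⁅P, P⁆ ≤ 𝒞(R)
  Rcls : ⁅⁅R, R⁆, R⁆ ≤ 𝒞(P)

/-- The two possibilities to continue the induction. -/
def Next (M P U : Subgroup G) (α : G) : Prop :=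
  Zs M ⁅P, zpowers α⁆ U α ≠ ⊥ ∨ Zs M ⁅⁅P, P⁆, zpowers α⁆ U α ≠ ⊥

theorem hh_odd {l p : ℕ} (hl : l.Prime) (hp : p.Prime) (hlp : l ≠ p) {W P : Subgroup G} {α : G}
    (hW : IsElementaryAbelian l W) (hP : IsPGroup p P) (h2 : p ≠ 2 ∨ IsMulCommutative P)
    (hr : (Nat.card (zpowers α)).Prime) (hrl : Nat.card (zpowers α) ≠ l)
    (hrp : Nat.card (zpowers α) ≠ p) (hαP : α ∈ 𝒩(P)) (hPW : P ≤ 𝒩(W)) (hαW : α ∈ 𝒩(W))
    (hfix : W ⊓ 𝒞[α] = ⊥) : ⁅P, zpowers α⁆ ≤ 𝒞(W) :=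
  hall_higman hl hr (zpowers_le.mpr hαP) (coprime_pgroup hp hr hrp.symm hP pgroup_zp)
    (fun Q hQ hQ2 _ => h2.elim (fun h2 => by
      rw [pgroup_eq_bot Nat.prime_two hQ2 hQ (not_dvd_pgroup Nat.prime_two hp h2.symm hP)]
      infer_instance) (abelian_of_le hQ)) hW hPW (zpowers_le.mpr hαW) (not_dvd_pgroup hl hp hlp hP)
    (fun h => hrl ((Nat.prime_dvd_prime_iff_eq hl hr).mp h).symm) (by rwa [cent_zpowers])

namespace Tri

variable {l p q : ℕ} {M P R Y U : Subgroup G} {α : G} (t : Tri l p q M P R α)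
include t

theorem copP : (Nat.card (zpowers α)).Coprime (Nat.card P) :=
  coprime_pgroup t.hr t.hp t.rp pgroup_zp t.pgrp

theorem copR : (Nat.card (zpowers α)).Coprime (Nat.card R) :=
  coprime_pgroup t.hr t.hq t.rq pgroup_zp t.Rp

theorem copRP : (Nat.card R).Coprime (Nat.card P) := coprime_pgroup t.hq t.hp t.qp t.Rp t.pgrp

theorem solv : Group.IsSolvable P := solv_pgroup t.hp t.pgrp

theorem next {P₁ : Subgroup G} (h1 : P₁ ≤ P) (hY : Y ≤ R) (hαY : α ∈ 𝒩(Y))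
    (hc : Y ≤ ⁅Y, zpowers α⁆) (hY1 : Y ≤ 𝒩(P₁)) (hα1 : α ∈ 𝒩(P₁)) (hU : U ≤ ⁅P₁, Y⁆)
    (hUα : U ≤ 𝒞[α]) (h : SS M ⁅P₁, Y⁆ Y α → U ≤ dS M ⁅P₁, Y⁆ α → U ≤ 𝒞(Y))
    (hn : ¬ U ≤ ⁅P, P⁆) : Next M P U α := by
  by_contra hne
  rw [Next, not_or, not_not, not_not] at hne
  have h2 := (comm_le_left hY1).trans h1
  have h3 := red2 t.toHon t.hq t.qp t.cls t.pow t.hr t.rl t.rp t.rq t.αM t.αP t.Rp t.RP t.αR t.Rc
    (hU.trans h2) hUα hne.1 hne.2
  have hY2 := Solv.le_normalizer_commutator_right P₁ Y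
  have hcop := cop_le t.copRP hY h1
  refine hn ((le_inf hU (h ⟨t.hr, t.αM, norm_comm (zpowers_le.mpr hα1) (zpowers_le.mpr hαY)
    (mem_zpowers α), hαY, hY.trans t.RM, hY2, h2.trans t.norm, cop_le t.copP le_rfl h2,
    cop_le t.copR le_rfl hY, cop_le t.toHon.cop h2 le_rfl, isSolvable_of_le h2 t.solv, hc,
    ((commutator_mono (der_mono hY) hY).trans t.Rcls).trans (cent_anti h2),
    eq_bot_iff.mpr ((inf_le_inf_right _ h2).trans t.faith.le)⟩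
    (le_inf hU (h3.trans (cent_anti (commutator_mono le_rfl (commutator_mono (commutator_mono h1
      (hc.trans (commutator_mono hY le_rfl))) le_rfl))))))).trans
    ((cent_le_der hY2 (cop_le hcop le_rfl (comm_le_left hY1))
      (comm_comm_eq hY1 hcop (Or.inr (isSolvable_of_le h1 t.solv)))).trans (der_mono h2)))

theorem step (hY : Y ≤ R) (hαY : α ∈ 𝒩(Y)) (hc : Y ≤ ⁅Y, zpowers α⁆) (hU : U ≤ R)
    (hUY : U ≤ 𝒩(Y)) (hUα : U ≤ 𝒞[α]) (hn : ¬ Zs P Y U α ≤ ⁅P, P⁆) : Next M P (Zs P Y U α) α := by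
  have hAU : zpowers α ≤ 𝒩(U) := le_norm_of_le_cent (le_cent_comm.mp (cent_zpowers α ▸ hUα))
  have hY1 : Y ≤ 𝒩(P ⊓ 𝒞(⁅Y, U⁆)) :=
    norm_inf (hY.trans t.RP) (norm_cent (Solv.le_normalizer_commutator_left _ _))
  have hU2 : U ≤ 𝒩(⁅P ⊓ 𝒞(⁅Y, U⁆), Y⁆) := norm_comm
    (norm_inf (hU.trans t.RP) (norm_cent (Solv.le_normalizer_commutator_right _ _))) hUY
  have hU3 := norm_inf hU2 (norm_cent1 hUα)
  have h2 := (comm_le_left hY1).trans inf_le_left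
  refine t.next inf_le_left hY hαY hc hY1 (norm_inf (zpowers_le.mpr t.αP) (norm_cent
    (norm_comm (zpowers_le.mpr hαY) hAU)) (mem_zpowers α)) ((comm_le_left hU3).trans inf_le_left)
    ((comm_le_left hU3).trans inf_le_right) (fun s hs => ?_) hn
  exact ((comm_comm_eq hU3 (cop_le t.copRP hU (inf_le_left.trans h2))
    (Or.inr (isSolvable_of_le (inf_le_left.trans h2) t.solv))).trans
      (commutator_mono hs le_rfl)).trans (s.sl1 (hU.trans t.RM) hU2 hUα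
        (le_cent_comm.mp ((comm_le_left hY1).trans inf_le_right)) hs)

theorem start0 (hn : ¬ ⁅P, ⁅R, zpowers α⁆⁆ ⊓ 𝒞[α] ≤ ⁅P, P⁆) :
    Next M P (⁅P, ⁅R, zpowers α⁆⁆ ⊓ 𝒞[α]) α :=
  have hA := zpowers_le.mpr t.αR
  t.next le_rfl (comm_le_left hA) (Solv.le_normalizer_commutator_right _ _ (mem_zpowers α))
    (comm_comm_eq hA t.copR (Or.inl (solv_cyc α))) ((comm_le_left hA).trans t.RP) t.αP inf_le_left
    inf_le_right (fun s hs => hs.trans (s.sl0 hs)) hn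

theorem start2 (hP : P ≤ ⁅P, R⁆) (hR : R ≤ ⁅R, zpowers α⁆) (hUM : U ≤ 𝒩(M)) (hUP : U ≤ 𝒩(P))
    (hUR : U ≤ 𝒩(R)) (hUα : U ≤ 𝒞[α]) (hcop : (Nat.card (zpowers α)).Coprime (Nat.card U))
    (hRU : R ≤ ⁅R, U⁆) (hn : ¬ ⁅P ⊓ 𝒞[α], U⁆ ≤ ⁅P, P⁆) : Next M P ⁅P ⊓ 𝒞[α], U⁆ α := by
  have h1 := comm_le_left (norm_inf hUP (norm_cent1 hUα))
  have e := le_antisymm (comm_le_left t.RP) hP
  refine t.next le_rfl le_rfl t.αR hR t.RP t.αP (h1.trans (inf_le_left.trans hP))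
    (h1.trans inf_le_right) (fun s hs => ?_) hn
  rw [e] at s hs
  exact hs.trans (s.sl2 t.hq t.Rp hUM hUP hUR hUα hcop hRU hs)

end Tri

theorem ga_pow {l q s a : ℕ} (hl : l.Prime) (hq : q.Prime) (hs : s.Prime) (hlq : l ≠ q)
    {W Q : Subgroup G} {x α : G} (hW : IsElementaryAbelian l W) (hQ : IsPGroup q Q)
    (hcls : ⁅Q, Q⁆ ≤ 𝒞(Q)) (hr : (Nat.card (zpowers α)).Prime) (hrq : Nat.card (zpowers α) ≠ q)
    (hrs : Nat.card (zpowers α) ≠ s) (hsq : s ≠ q) (hx : IsPGroup s (zpowers x)) (hxα : x ∈ 𝒞[α])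
    (hQW : Q ≤ 𝒩(W)) (hxW : x ∈ 𝒩(W)) (hαW : α ∈ 𝒩(W)) (hxQ : x ∈ 𝒩(Q)) (hαQ : α ∈ 𝒩(Q))
    (hc : ⁅Q, Q⁆ ≤ 𝒞[x]) (hc' : ⁅⁅Q, Q⁆, zpowers α⁆ ≤ 𝒞(W)) (hQα : Q ≤ ⁅Q, zpowers α⁆)
    (hxt : x ^ s ^ (a + 1) ∈ 𝒞(Q))
    (hfix : (3 ≤ s ^ (a + 1) ∧ W ⊓ 𝒞[α] ≤ 𝒞[x]) ∨ W ⊓ 𝒞[α] = ⊥) :
    ⁅Q, zpowers (x ^ s ^ a)⁆ ≤ 𝒞(W) := by
  set Z := zpowers (x ^ s ^ a)
  have hZ : Z ≤ zpowers x := zpowers_le.mpr (npow_mem_zpowers x _)
  have hX := zpowers_le.mpr hxQ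
  have hA := zpowers_le.mpr hαQ
  set Q₁ := ⁅Q, Z⁆
  have h1 : Q₁ ≤ Q := comm_le_left (hZ.trans hX)
  have hd := der_mono h1
  have hXQ : zpowers x ≤ 𝒩(Q₁) := norm_comm hX (le_norm_of_abelian hZ inferInstance)
  have hAQ : zpowers α ≤ 𝒩(Q₁) := norm_comm hA (le_norm_of_le_cent (le_cent_comm.mp
    (hZ.trans (zpowers_le.mpr (cent_zpowers α ▸ hxα)))))
  have hcx := cop_le (coprime_pgroup hs hq hsq hx hQ) hZ le_rfl
  have hcα := coprime_pgroup hr hq hrq pgroup_zp hQ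
  have h2 : Q₁ ≤ ⁅Q₁, Z⁆ := comm_comm_eq (hZ.trans hX) hcx (Or.inl (solv_cyc _))
  have hb : ∀ {B : Subgroup G}, B ≤ 𝒞(⁅Q, Q⁆) → ⁅B, ⁅Q₁, Q₁⁆⁆ ≤ centMod W ⊥ := fun h =>
    (comm_eq_bot_iff.mpr (h.trans (cent_anti hd))).le.trans bot_le
  refine le_cent_comm.mp (comm_eq_bot_iff.mp (le_bot_iff.mp
    ((Sec.of_elem hl hW (L := 𝒩(W)) le_rfl).ga (t := s ^ (a + 1)) hr (h1.trans hQW) hxW hαW
      (by rw [Nat.card_zpowers, pow_orderOf_eq_one]) (mem_cent1_iff.mp hxα)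
      (Nat.card_zpowers x ▸ coprime_pgroup hs hr hrs.symm hx pgroup_zp)
      (fun h => hrs ((Nat.prime_dvd_prime_iff_eq hr hs).mp (hr.dvd_of_dvd_pow h)))
      (hXQ (mem_zpowers x)) (hAQ (mem_zpowers α)) (not_dvd_pgroup hl hq hlq (hQ.to_le h1))
      (hb (h1.trans (le_cent_comm.mp hcls)))
      (by rw [centMod_bot, commutator_comm]; exact (commutator_mono hd le_rfl).trans hc')
      (hb (zpowers_le.mpr (le_cent1_iff.mp hc)))
      ((comm_eq_bot_iff.mpr (h1.trans (le_cent_comm.mp (zpowers_le.mpr hxt)))).le.trans bot_le)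
      ?_ (fun j j1 j2 => ?_) ?_)))
  · refine le_of_le_sup_der hq (hQ.to_le h1) (comm_le_left hAQ)
      ((Solv.coprime_commutator_sup_centralizer _ _ hAQ (cop_le hcα le_rfl h1)
        (Or.inl (solv_cyc α))).ge.trans (sup_le_sup_left ((le_inf inf_le_left ?_).trans
          (cent_le_der (hZ.trans hXQ) (cop_le hcx le_rfl h1) h2)) _))
    exact (((inf_le_inf_right _ h1).trans (cent_le_der hA hcα hQα)).trans hc).trans
      ((cent_zpowers x).ge.trans (cent_anti hZ))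
  · have hj : zpowers (x ^ j) ≤ 𝒩(Q₁) := (zpowers_le.mpr (npow_mem_zpowers x j)).trans hXQ
    set H := centMod Q₁ ⁅Q₁, zpowers (x ^ j)⁆
    have m1 : x ^ j ∈ H :=
      (le_centMod' (Solv.le_normalizer_commutator_right _ _)).mpr le_rfl (mem_zpowers _)
    have m2 : x ^ s ^ (a + 1) ∈ H := cent_le_centMod_of_le (comm_le_left hj) (cent_anti h1 hxt)
    obtain ⟨b, hb, e⟩ := (Nat.dvd_prime_pow hs).mp (Nat.gcd_dvd_right j (s ^ (a + 1)))
    have hb' : b ≤ a := by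
      by_contra h
      obtain rfl : b = a + 1 := by omega
      exact j2.not_ge (Nat.le_of_dvd j1 (e ▸ Nat.gcd_dvd_left j _))
    have m3 : x ^ s ^ b ∈ H := by
      rw [← e, ← zpow_natCast, Nat.gcd_eq_gcd_ab, zpow_add, zpow_mul, zpow_mul, zpow_natCast,
        zpow_natCast]
      exact mul_mem (zpow_mem m1 _) (zpow_mem m2 _)
    refine h2.trans ((commutator_mono le_rfl (zpowers_le.mpr ?_)).trans (comm_centMod_le _ _))
    rw [← Nat.add_sub_cancel' hb', pow_add, pow_mul]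
    exact pow_mem m3 _
  · simp only [centMod_bot, cent_zpowers, le_bot_iff]
    exact hfix.imp_right fun h => ⟨hs.two_le.trans (Nat.le_self_pow (by omega) s), h⟩

theorem Hon.zs_ne {l q : ℕ} {M Q U : Subgroup G} {α : G} (h : Hon l q M Q) (h2 : q ≠ 2)
    (hr : (Nat.card (zpowers α)).Prime) (hrl : Nat.card (zpowers α) ≠ l)
    (hrq : Nat.card (zpowers α) ≠ q) (hαM : α ∈ 𝒩(M)) (hαQ : α ∈ 𝒩(Q)) (hQα : Q ≤ ⁅Q, zpowers α⁆)
    (hU : U ≤ Q) (hc : Q ≤ 𝒞(U)) (hUα : U ≤ 𝒞[α]) (hz : Zs M Q U α = ⊥) : U = ⊥ := by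
  have := h.elem.1
  obtain ⟨b1, b2⟩ := m4 h.norm (hU.trans h.norm) hc (cop_le h.cop hU le_rfl) h.cop hz
  exact h.eq_bot hU ((b2 Q le_rfl (hQα.trans (hh_odd h.hl h.hp h.ne (elem_of_le h.elem
    ((commutator_mono (comm_le_left h.norm) le_rfl).trans (comm_le_left (hU.trans h.norm)))) h.pgrp
    (Or.inl h2) hr hrl hrq hαQ
    (norm_comm (Solv.le_normalizer_commutator_right _ _) (le_norm_of_le_cent hc))
    (norm_comm (norm_comm (zpowers_le.mpr hαM) (zpowers_le.mpr hαQ)) (le_norm_of_le_cent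
      (le_cent_comm.mp (cent_zpowers α ▸ hUα))) (mem_zpowers α)) b1))).trans
        (cent_anti (commutator_mono le_rfl hU)))

/-- The level `S` above `Q` centralizes `α` and its fixed points in `M`. -/
structure NA (l q s : ℕ) (M Q S : Subgroup G) (α : G) : Prop extends Tri l q s M Q S α where
  Sα : S ≤ 𝒞[α]
  QS : Q ≤ ⁅Q, S⁆
  Qα : Q ≤ ⁅Q, zpowers α⁆
  fix : M ⊓ 𝒞[α] ≤ 𝒞(S)
  ne_bot : Q ≠ ⊥

namespace NA

variable {l q s : ℕ} {M Q S T : Subgroup G} {α : G} (t : NA l q s M Q S α)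
include t

theorem center_le : 𝒵(Q) ≤ 𝒞[α] := by
  have hA := norm_center (zpowers_le.mpr t.αP)
  have h1 : ⁅𝒵(Q), zpowers α⁆ ≤ 𝒵(Q) := comm_le_left hA
  have h2 := h1.trans inf_le_left
  have := (Sec.of_elem t.hl t.elem (L := 𝒩(M)) le_rfl).wt (Z := ⁅𝒵(Q), zpowers α⁆)
    (Nat.card_zpowers α ▸ t.hr) t.norm t.RM t.αM h2
    ((comm_eq_bot_iff.mpr (le_cent_comm.mp (h1.trans inf_le_right))).le.trans bot_le)
    (not_dvd_pgroup t.hl t.hp t.ne (t.pgrp.to_le h2))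
    (Solv.le_normalizer_commutator_right _ _ (mem_zpowers α))
    (comm_comm_eq hA (cop_le t.copP le_rfl inf_le_left) (Or.inl (solv_cyc α)))
    (norm_comm (norm_center t.RP) (norm_zp t.Sα)) t.Sα (Nat.card_zpowers α ▸ t.copR.symm) t.QS
    (by simpa only [centMod_bot, cent_zpowers] using t.fix)
  rw [← cent_zpowers, ← comm_eq_bot_iff, eq_bot_iff, ← t.faith]
  exact le_inf h2 (le_cent_comm.mp (comm_eq_bot_iff.mp (le_bot_iff.mp this)))

theorem cent_le : Q ⊓ 𝒞[α] ≤ ⁅Q, Q⁆ :=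
  cent_zpowers α ▸ cent_le_der (zpowers_le.mpr t.αP) t.copP t.Qα

theorem der_le_cent : ⁅Q, Q⁆ ≤ 𝒞[α] := (le_inf (der_le Q) t.cls).trans t.center_le

theorem sq_mem {x : G} (hx : x ∈ S) : x ^ 2 ∈ 𝒞(Q) := by
  classical
  by_contra h2
  have hex : ∃ a, x ^ s ^ a ∈ 𝒞(Q) := by
    obtain ⟨k, hk⟩ := t.Rp ⟨x, hx⟩
    exact ⟨k, by rw [show x ^ s ^ k = 1 from congrArg Subtype.val hk]; exact one_mem _⟩
  obtain ⟨a, ha⟩ : ∃ a, Nat.find hex = a + 1 := Nat.exists_eq_succ_of_ne_zero fun e => h2 (by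
    have := Nat.find_spec hex
    rw [e, pow_zero, pow_one] at this
    exact pow_mem this 2)
  have h1 := ha ▸ Nat.find_spec hex
  have h3 := ga_pow t.hl t.hp t.hq t.ne t.elem t.pgrp t.cls t.hr t.rp t.rq t.qp
    (t.Rp.to_le (zpowers_le.mpr hx)) (t.Sα hx) t.norm (t.RM hx) t.αM (t.RP hx) t.αP
    (t.Rc.trans (cent_le_cent1 hx))
    ((comm_eq_bot_iff.mpr (t.der_le_cent.trans (cent_zpowers α).ge)).le.trans bot_le) t.Qα h1
    (Or.inl ⟨by
      have := t.hq.two_le.trans (Nat.le_self_pow a.succ_ne_zero s)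
      exact lt_of_le_of_ne this fun e => h2 (e ▸ h1), t.fix.trans (cent_le_cent1 hx)⟩)
  have h4 := (le_inf (comm_le_left (zpowers_le.mpr (t.RP (pow_mem hx _)))) h3).trans t.faith.le
  exact Nat.find_min hex (ha ▸ a.lt_succ_self)
    (le_cent_comm.mp (comm_eq_bot_iff.mp (le_bot_iff.mp h4)) (mem_zpowers _))

theorem exists_not_mem : ∃ x ∈ S, x ∉ 𝒞(Q) := SetLike.not_le_iff_exists.mp fun h =>
  t.ne_bot (eq_bot_iff.mpr (t.QS.trans (comm_eq_bot_iff.mpr (le_cent_comm.mp h)).le))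

theorem eq_two : s = 2 := by
  by_contra h
  obtain ⟨x, hx, hxQ⟩ := t.exists_not_mem
  refine hxQ (zpowers_le.mpr (t.sq_mem hx) ((zpowers_pow_eq ?_).ge (mem_zpowers x)))
  obtain ⟨k, hk⟩ := t.Rp ⟨x, hx⟩
  exact (((Nat.coprime_primes t.hq Nat.prime_two).mpr h).pow_left k).coprime_dvd_left
    (orderOf_dvd_of_pow_eq_one (congrArg Subtype.val hk))

theorem not_le_cent (hTM : T ≤ 𝒩(M)) (hTQ : T ≤ 𝒩(Q)) (hTS : T ≤ 𝒩(S))
    (hST : S ≤ ⁅S, T⁆) (hcop : (Nat.card T).Coprime (Nat.card S)) : ¬ ⁅Q, Q⁆ ≤ 𝒞(T) := by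
  intro hT
  obtain ⟨x, hx, hxQ⟩ := t.exists_not_mem
  have := t.elem.1
  set A := zpowers α
  set X := zpowers x
  have hXS : X ≤ S := zpowers_le.mpr hx
  have hXQ := hXS.trans t.RP
  have hAX : A ≤ 𝒞(X) := le_cent_comm.mp (hXS.trans (t.Sα.trans (cent_zpowers α).ge))
  have hcX := cop_le t.copRP hXS le_rfl
  set Q₁ := ⁅Q, X⁆
  set C := Q ⊓ 𝒞(X)
  have h1 : Q₁ ≤ Q := comm_le_left hXQ
  have hAC : A ≤ 𝒩(C) := norm_inf (zpowers_le.mpr t.αP) (hAX.trans (le_norm_self _))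
  have h0 : ⁅C, A⁆ ≤ C := comm_le_left hAC
  have hb : ∀ H : Subgroup G, H ≤ 𝒩(⊥) := fun _ => le_top.trans norm_bot.ge
  have ha : Q₁ ≤ 𝒞(C) := comm_eq_bot_iff.mp (le_bot_iff.mp (three_subgroups_mod (hb _) (hb _) (hb _)
    (by rw [commutator_comm X, comm_eq_bot_iff.mpr inf_le_right, commutator_bot_left])
    (comm_eq_bot_iff.mpr ((commutator_mono inf_le_left le_rfl).trans
      (t.Rc.trans (cent_anti hXS)))).le))
  have hq2 : q ≠ 2 := fun e => t.qp (t.eq_two.trans e.symm)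
  have hN : M ⊓ 𝒞(X) ⊴ M := ⟨inf_le_left, le_norm_of_abelian inf_le_left this⟩
  have hAN : A ≤ 𝒩(M ⊓ 𝒞(X)) := norm_inf (zpowers_le.mpr t.αM) (hAX.trans (le_norm_self _))
  have hcM := coprime_pgroup t.hr t.hl t.rl pgroup_zp (elem_pgroup t.elem)
  have hb' : ⁅M, ⁅C, A⁆⁆ ≤ M ⊓ 𝒞(X) := hall_higman_sec t.hl t.hr hAC
    (cop_le t.copP le_rfl inf_le_left).symm
    (fun Y hY hY2 _ => by
      rw [pgroup_eq_bot Nat.prime_two hY2 (hY.trans inf_le_left)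
        (not_dvd_pgroup Nat.prime_two t.hp hq2.symm t.pgrp)]
      infer_instance) hN ((abelian_iff_commutator_eq_bot.mp this).le.trans bot_le)
    (fun v hv => t.elem.2 v hv ▸ one_mem _) (inf_le_left.trans t.norm) (zpowers_le.mpr t.αM)
    (norm_inf (inf_le_left.trans t.norm) (inf_le_right.trans (le_norm_self _))) hAN
    (not_dvd_pgroup t.hl t.hp t.ne (t.pgrp.to_le inf_le_left))
    (fun h => t.rl ((Nat.prime_dvd_prime_iff_eq t.hl t.hr).mp h).symm)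
    fun v hv h => (inf_centMod_le_sup inf_le_left hAN (cop_le hcM le_rfl inf_le_left)
      (Or.inl (solv_cyc α))).trans (sup_le (le_inf inf_le_left (cent_zpowers α ▸ t.fix.trans
        (cent_anti hXS))) le_rfl) ⟨hv, (mem_centMod_iff_conj hN.norm hv).mpr h⟩
  have h11 : Q₁ ≤ ⁅Q₁, X⁆ := comm_comm_eq hXQ hcX (Or.inl (solv_cyc x))
  have hc : Q₁ ≤ 𝒞(⁅M, ⁅C, A⁆⁆) := h11.trans ((commutator_mono le_rfl (le_cent_comm.mp
    (hb'.trans inf_le_right))).trans (comm_le_right (norm_cent (norm_comm (h1.trans t.norm)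
      (le_norm_of_le_cent (ha.trans (cent_anti h0)))))))
  set Z := ⁅Q₁, Q₁⁆
  have hZ : Z ≤ ⁅Q, Q⁆ := der_mono h1
  have hZQ := hZ.trans (der_le Q)
  set K := Q ⊓ 𝒞(⁅M, Z⁆)
  have hK : ∀ B : Subgroup G, B ≤ 𝒩(M) → B ≤ 𝒩(Q) → ⁅Q, Q⁆ ≤ 𝒞(B) → B ≤ 𝒩(K ⊔ ⁅Q, Q⁆) ∧
      B ≤ 𝒩(K) ∧ B ≤ 𝒩(⁅M, Z⁆) := fun B b1 b2 b3 =>
    have b4 := norm_comm b1 (le_norm_of_le_cent (le_cent_comm.mp (hZ.trans b3)))
    ⟨norm_sup (norm_inf b2 (norm_cent b4)) (norm_der b2), norm_inf b2 (norm_cent b4), b4⟩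
  obtain ⟨n1, n2, n3⟩ := hK Q t.norm (le_norm_self Q) t.cls
  obtain ⟨n4, -, -⟩ := hK S t.RM t.RP t.Rc
  obtain ⟨n5, -, -⟩ := hK T hTM hTQ hT
  set N := K ⊔ ⁅Q, Q⁆
  have hNQ : N ≤ Q := sup_le inf_le_left (der_le Q)
  have h0Q := h0.trans inf_le_left
  have hCN : C ≤ N := (Solv.coprime_commutator_sup_centralizer A C hAC
    (cop_le t.copP le_rfl inf_le_left) (Or.inl (solv_cyc α))).ge.trans (sup_le_sup (le_inf h0Q
      (le_cent_comm.mp (comm_eq_bot_iff.mp (eq_bot_iff.mpr (le_trans (le_inf (le_inf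
        ((commutator_mono (comm_le_left (hZQ.trans t.norm)) le_rfl).trans
          (comm_le_left (h0Q.trans t.norm)))
        ((commutator_mono (comm_le_left (hZQ.trans t.norm)) le_rfl).trans
          (le_cent_comm.mp ((der_le Q₁).trans hc)))) (comm_le_left (h0Q.trans n3)))
        (Solv.coprime_centralizer_inf_commutator Z M (hZQ.trans t.norm)
          (cop_le t.toHon.cop hZQ le_rfl)).le)))))
      ((inf_le_inf_right _ inf_le_left).trans (cent_zpowers α ▸ t.cent_le)))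
  have he : ∀ y ∈ S, Q ⊓ 𝒞[y] ≤ N → ∀ g ∈ Q, g * (y * g * y⁻¹) ∈ N := fun y hy h g hg => by
    have hg' := conj_mem_of_mem_normalizer (t.RP hy) hg
    have hw := Q.mul_mem hg hg'
    have hyQ := norm_der (zpowers_le.mpr (t.RP hy))
    refine (inf_centMod_le_sup (der_le Q) hyQ
      (cop_le t.copRP (zpowers_le.mpr hy) (der_le Q)) (Or.inl (solv_cyc y))).trans
      (sup_le (cent_zpowers y ▸ h) le_sup_right) ⟨hw, mem_centMod_zpowers
        (norm_der (le_norm_self Q) hw) (hyQ (mem_zpowers y)) ?_⟩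
    convert commutator_mem_commutator hg hg' using 1
    have e := t.sq_mem hy _ (Q.inv_mem hg)
    simp only [commutatorElement_def]
    calc _ = g * (y * g * y⁻¹) * (y ^ 2 * g⁻¹) * (y ^ 2)⁻¹ * (y * g⁻¹ * y⁻¹) := by
            rw [sq]; group
      _ = _ := by rw [← e]; group
  have hS' : ⁅S, S⁆ ≤ S ⊓ centMod Q N := le_inf (der_le S) ((commutator_le.mpr fun a ha b hb => by
    have := mul_mem (mul_mem (t.sq_mem ha) (t.sq_mem (S.mul_mem (S.inv_mem ha) hb)))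
      (inv_mem (t.sq_mem hb))
    convert this using 1
    simp only [commutatorElement_def, sq]; group).trans (cent_le_centMod_of_le hNQ))
  have hxH := centMod_le_of_le_comm inf_le_left hS' hTS (norm_inf hTS (norm_centMod hTQ n5)) hcop
    (hST.trans le_sup_left) (show x ∈ _ from ⟨hx, le_norm_of_der_le inf_le_left hS' hx,
      fun y hy => by
        have hx' := conj_mem_of_mem_normalizer (hTS hy) hx
        have hxy := comm_le_left hTS (commutator_mem_commutator hx hy)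
        refine ⟨hxy, n4 hxy, fun g hg => ?_⟩
        have hg1 := conj_mem_of_mem_normalizer' (t.RP hx') hg
        have := conj_mem_of_mem_normalizer' (n1 hg1) (N.mul_mem
          (he x hx (cent_zpowers x ▸ hCN) _ hg1) (N.inv_mem (he _ hx' (by
            rw [← cj_inf_cent1 (hTQ hy), ← cj_of_mem_normalizer (n5 hy), ← cent_zpowers]
            exact cj_mono y hCN) _ hg1)))
        convert this using 1
        simp only [commutatorElement_def]; group⟩)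
  have h2 : Q₁ ≤ N := (commutator_mono le_rfl (zpowers_le.mpr hxH.2)).trans (comm_centMod_le _ _)
  have h3 : Z = ⊥ := t.toHon.eq_bot hZQ (((commutator_mono h2 h1).trans (commutator_sup_le
    (le_norm_self K) ((der_le Q).trans n2) (comm_le_left n2)
      ((comm_eq_bot_iff.mpr t.cls).le.trans bot_le))).trans inf_le_right)
  have h4 : Q₁ ≤ 𝒞(X) := ((le_inf (le_inf h1 (by
    rw [← Solv.coprime_commutator_sup_centralizer X Q hXQ hcX (Or.inl (solv_cyc x)), cent_sup]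
    exact le_inf (comm_eq_bot_iff.mp h3) ha)) le_rfl).trans inf_le_left).trans
      ((le_inf inf_le_left t.center_le).trans (t.cent_le.trans (t.Rc.trans (cent_anti hXS))))
  exact hxQ (le_cent_comm.mp (comm_eq_bot_iff.mp (eq_bot_iff.mpr
    (h11.trans (comm_eq_bot_iff.mpr h4).le))) (mem_zpowers x))

end NA

end Cfsg.Agent.FH
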