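import Mathlib
import Cfsg.Agent.FH.Res
import Cfsg.Agent.Solv.ExtAction

/-! Transfer from external actions to the semidirect product. -/

set_option autoImplicit false

namespace Cfsg.Agent.FH
open Cfsg.Agent.FT Cfsg.Agent.Solv.Ext Subgroup
open scoped commutatorElement

variable {A G : Type*} [Group A] [Group G] [MulDistribMulAction A G]

theorem norm_range (B : Subgroup (SD A G)) : B ≤ 𝒩((iG A G).range) :=
  le_top.trans (normIn_top.mpr normal_range_iG).norm

theorem iG_mem_cent1 {a : A} {g : G} : iG A G g ∈ 𝒞[iA A G a] ↔ a • g = g := by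
  rw [mem_cent1_iff, ← (iG_injective (A := A) (G := G)).eq_iff, iG_smul, mul_inv_eq_iff_eq_mul, eq_comm]

theorem range_inf_cent (B : Subgroup A) (h : ∀ g : G, (∀ a ∈ B, a • g = g) → g = 1) :
    (iG A G).range ⊓ 𝒞(B.map (iA A G)) = ⊥ := by
  rw [eq_bot_iff]
  rintro _ ⟨⟨g, rfl⟩, hg⟩
  rw [h g fun a ha => iG_mem_cent1.mp (cent_le_cent1 (mem_map_of_mem _ ha) hg), map_one]
  exact one_mem _

theorem range_inf_cent1 {a : A} (h : ∀ g : G, a • g = g → g = 1) :
    (iG A G).range ⊓ 𝒞[iA A G a] = ⊥ := by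
  rw [← cent_zpowers, ← MonoidHom.map_zpowers]
  exact range_inf_cent _ fun g hg => h g (hg a (mem_zpowers a))

theorem solv_range (h : Group.IsSolvable G) : Group.IsSolvable (iG A G).range :=
  Group.isSolvable_of_surjective (iG A G).rangeRestrict_surjective

variable [Finite G]

theorem resN_map_iG (n : ℕ) (H : Subgroup G) : resN n (H.map (iG A G)) = ⊥ ↔ resN n H = ⊥ := by
  rw [← map_resN, map_eq_bot_iff_of_injective _ iG_injective]

theorem resN_range (n : ℕ) : resN n (iG A G).range = ⊥ ↔ resN n (⊤ : Subgroup G) = ⊥ := by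
  rw [MonoidHom.range_eq_map, resN_map_iG]

theorem nilpotent_commutator_of (h : res ⁅(iG A G).range, (iG A G).range⁆ = ⊥) :
    Group.IsNilpotent (commutator G) := by
  rw [MonoidHom.range_eq_map, ← map_commutator] at h
  exact res_eq_bot_iff.mp ((resN_map_iG 1 _).mp h)

theorem not_dvd_of_fpf {p : ℕ} (hp : p.Prime) {B : Subgroup A} (hB : IsPGroup p B)
    (h : ∀ g : G, (∀ a ∈ B, a • g = g) → g = 1) : ¬ p ∣ Nat.card G := by
  have := Fact.mk hp
  have h1 := hB.card_modEq_card_fixedPoints G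
  have h2 : MulAction.fixedPoints B G = {1} := Set.eq_singleton_iff_unique_mem.mpr
    ⟨fun a => smul_one a, fun g hg => h g fun a ha => hg ⟨a, ha⟩⟩
  rw [h2, Nat.card_unique (α := ({1} : Set G))] at h1
  exact fun hd => hp.one_lt.ne' (Nat.dvd_one.mp ((h1.dvd_iff dvd_rfl).mp hd))

theorem not_dvd_of_fpf1 {p n : ℕ} (hp : p.Prime) {a : A} (ha : a ^ p ^ n = 1)
    (h : ∀ g : G, a • g = g → g = 1) : ¬ p ∣ Nat.card (iG A G).range := by
  rw [card_range_iG]
  refine not_dvd_of_fpf hp (B := zpowers a) ?_ fun g hg => h g (hg a (mem_zpowers a))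
  rintro ⟨_, i, rfl⟩
  exact ⟨n, Subtype.ext (by
    change (a ^ i) ^ p ^ n = 1
    rw [← zpow_natCast, ← zpow_mul, mul_comm, zpow_mul, zpow_natCast, ha, one_zpow])⟩

end Cfsg.Agent.FH
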