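import Mathlib
import Cfsg.Agent.FH.Base

/-! Passing from a section with an acting `p`-group to an honest faithful action. -/

set_option autoImplicit false

namespace Cfsg.Agent.FH
open Cfsg.Agent.FT Cfsg.Agent.PLocal.CommMod Subgroup
open scoped commutatorElement

universe u

variable {G : Type u} [Group G]

/-- The kernel to be factored out. -/
abbrev kq (V N P : Subgroup G) : Subgroup G := N ⊔ P ⊓ centMod V N

namespace Sec

variable {l p : ℕ} {V N L P X : Subgroup G} (h : Sec l V N L)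
include h

theorem kq_le : kq V N P ≤ centMod V N := sup_le (le_centMod_self h.norm) inf_le_right

theorem norm_kq {B : Subgroup G} (hB : B ≤ L) (hBP : B ≤ 𝒩(P)) : B ≤ 𝒩(kq V N P) :=
  norm_sup (hB.trans h.LN) (norm_inf hBP (norm_centMod (hB.trans h.LV) (hB.trans h.LN)))

theorem norm_kq' (hP : P ≤ L) : V ≤ 𝒩(kq V N P) :=
  le_norm_of_comm_le ((commutator_sup_le (le_norm_self N) (inf_le_left.trans (hP.trans h.LN))
    (comm_le_left h.norm) ((commutator_mono inf_le_right le_rfl).trans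
      (commutator_centMod_le V N))).trans le_sup_left)

variable [Finite G]

theorem inf_kq (hp : p.Prime) (hlp : l ≠ p) (hP : IsPGroup p P) (hPL : P ≤ L) :
    V ⊓ kq V N P ≤ N := by
  rintro v ⟨hv, hk⟩
  obtain ⟨n, hn, c, hc, rfl⟩ := (mem_sup_norm (inf_le_left.trans (hPL.trans h.LN))).mp hk
  refine N.mul_mem hn (zpowers_le.mpr (h.pow c ((V.mul_mem_cancel_left (h.le hn)).mp hv))
    ((zpowers_pow_eq ?_).ge (mem_zpowers c)))
  exact ((h.prime.coprime_iff_not_dvd.mpr (not_dvd_pgroup h.prime hp hlp hP)).symm).coprime_dvd_left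
    (orderOf_dvd_natCard P hc.1)

variable {L' : Subgroup G} [((kq V N P).subgroupOf L').Normal]

theorem qt_eq_bot (hp : p.Prime) (hlp : l ≠ p) (hP : IsPGroup p P) (hPL : P ≤ L) (hV : V ≤ L')
    (hX : X ≤ V) : qt L' (kq V N P) X = ⊥ ↔ X ≤ N := by
  rw [Qt.eq_bot_iff' (hX.trans hV)]
  exact ⟨fun h' => (le_inf hX h').trans (h.inf_kq hp hlp hP hPL), fun h' => h'.trans le_sup_left⟩

theorem qt_le_cent (hp : p.Prime) (hlp : l ≠ p) (hP : IsPGroup p P) (hPL : P ≤ L) (hV : V ≤ L')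
    (hX : X ≤ L') (hXV : X ≤ 𝒩(V)) :
    qt L' (kq V N P) X ≤ 𝒞(qt L' (kq V N P) V) ↔ ⁅V, X⁆ ≤ N := by
  rw [le_cent_comm, ← comm_eq_bot_iff, ← Qt.qt_comm hV hX,
    h.qt_eq_bot hp hlp hP hPL hV (comm_le_left hXV)]

omit [Finite G] in
theorem qt_eq_bot' (hP' : P ≤ L') (hX : X ≤ P) : qt L' (kq V N P) X = ⊥ ↔ X ≤ centMod V N := by
  rw [Qt.eq_bot_iff' (hX.trans hP')]
  exact ⟨fun h' => h'.trans h.kq_le, fun h' => (le_inf hX h').trans le_sup_right⟩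

theorem hon (hp : p.Prime) (hlp : l ≠ p) (hP : IsPGroup p P) (hPL : P ≤ L) (hV : V ≤ L')
    (hP' : P ≤ L') : Hon l p (qt L' (kq V N P) V) (qt L' (kq V N P) P) := by
  refine ⟨h.prime, hp, hlp, ⟨abelian_iff.mpr ((h.qt_le_cent hp hlp hP hPL hV hV
    (le_norm_self V)).mpr h.der), fun y hy => ?_⟩, Qt.pgroup hP' hP, Qt.norm (hPL.trans h.LV), ?_⟩
  · obtain ⟨x, hx, rfl⟩ := Qt.mem_qt.mp hy
    exact (Qt.mk_eq_one (x := x ^ l)).mpr (mem_sup_left (h.pow x hx))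
  · rw [eq_bot_iff]
    rintro y ⟨hy, hc⟩
    obtain ⟨x, hx, rfl⟩ := Qt.mem_qt.mp hy
    have hx' := zpowers_le.mpr hx
    have := (h.qt_le_cent hp hlp hP hPL hV (zpowers_le.mpr x.2) (hx'.trans (hPL.trans h.LV))).mp
      (by rw [Qt.qt_zpowers]; exact zpowers_le.mpr hc)
    exact Qt.mk_eq_one.mpr (mem_sup_right ⟨hx,
      (le_centMod' (hx'.trans (hPL.trans h.LN))).mpr this (mem_zpowers _)⟩)

end Sec

variable [Finite G] {L N : Subgroup G} [(N.subgroupOf L).Normal]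

theorem qt_inf_cent_eq {X A : Subgroup G} (hA : A ≤ L) (hX : X ≤ L) (hAX : A ≤ 𝒩(X)) (hN : N ≤ L)
    (hcop : (Nat.card A).Coprime (Nat.card X)) (hs : Group.IsSolvable A ∨ Group.IsSolvable X) :
    qt L N (X ⊓ 𝒞(A)) = qt L N X ⊓ 𝒞(qt L N A) :=
  le_antisymm (Qt.inf_cent_ge X A) (qt_inf_cent hA hX hAX hN hcop hs)

theorem qt_inf_cent1 {X : Subgroup G} (a : L) (hX : X ≤ L) (hAX : (a : G) ∈ 𝒩(X)) (hN : N ≤ L)
    (hcop : (Nat.card (zpowers (a : G))).Coprime (Nat.card X)) :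
    qt L N (X ⊓ 𝒞[(a : G)]) = qt L N X ⊓ 𝒞[(a : L ⧸ N.subgroupOf L)] := by
  rw [← cent_zpowers, qt_inf_cent_eq (zpowers_le.mpr a.2) hX (zpowers_le.mpr hAX) hN hcop
    (Or.inl (solv_cyc _)), Qt.qt_zpowers, cent_zpowers]

omit [Finite G] in
theorem qt_comm1 {X : Subgroup G} (a : L) (hX : X ≤ L) :
    qt L N ⁅X, zpowers (a : G)⁆ = ⁅qt L N X, zpowers (a : L ⧸ N.subgroupOf L)⁆ := by
  rw [Qt.qt_comm hX (zpowers_le.mpr a.2), Qt.qt_zpowers]

omit [Finite G] in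
theorem qt_norm1 {X : Subgroup G} (a : L) (h : (a : G) ∈ 𝒩(X)) :
    (a : L ⧸ N.subgroupOf L) ∈ 𝒩(qt L N X) :=
  Qt.norm (zpowers_le.mpr h) (Qt.mk_mem (mem_zpowers _))

omit [Finite G] in
theorem qt_cent1 {X : Subgroup G} (a : L) (h : X ≤ 𝒞[(a : G)]) :
    qt L N X ≤ 𝒞[(a : L ⧸ N.subgroupOf L)] := by
  rw [← cent_zpowers, ← Qt.qt_zpowers]
  exact (Qt.mono (le_inf le_rfl (h.trans (cent_zpowers _).ge))).trans
    ((Qt.inf_cent_ge X _).trans inf_le_right)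

omit [Finite G] in
theorem qt_card1 (a : L) (hcop : (Nat.card (zpowers (a : G))).Coprime (Nat.card N)) :
    Nat.card (zpowers (a : L ⧸ N.subgroupOf L)) = Nat.card (zpowers (a : G)) := by
  rw [← Qt.qt_zpowers, Qt.card_of_disjoint (zpowers_le.mpr a.2)
    (disjoint_iff.mp (disjoint_of_coprime_natCard hcop.symm))]

theorem qt_Zs {P Y U R : Subgroup G} (a : L) (hP : P ≤ L) (hR : R ≤ L) (hN : N ≤ L) (hY : Y ≤ R)
    (hU : U ≤ R) (hRP : R ≤ 𝒩(P)) (hcop : (Nat.card R).Coprime (Nat.card P))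
    (hs : Group.IsSolvable P) (haP : (a : G) ∈ 𝒩(P)) (haY : (a : G) ∈ 𝒩(Y)) (hUa : U ≤ 𝒞[(a : G)])
    (hcop' : (Nat.card (zpowers (a : G))).Coprime (Nat.card P)) :
    qt L N (Zs P Y U a) = Zs (qt L N P) (qt L N Y) (qt L N U) a := by
  have h1 : ⁅Y, U⁆ ≤ R := (comm_le_sup Y U).trans (sup_le hY hU)
  have h2 : ⁅P ⊓ 𝒞(⁅Y, U⁆), Y⁆ ≤ P :=
    (commutator_mono inf_le_left le_rfl).trans (comm_le_left (hY.trans hRP))
  have hA := zpowers_le.mpr haY
  rw [Zs, Zs, Qt.qt_comm (inf_le_left.trans (h2.trans hP)) (hU.trans hR),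
    qt_inf_cent1 a (h2.trans hP) (norm_comm (norm_inf (zpowers_le.mpr haP) (norm_cent (norm_comm hA
      (le_norm_of_le_cent (le_cent_comm.mp (hUa.trans (cent_zpowers _).ge)))))) hA (mem_zpowers _))
      hN (cop_le hcop' le_rfl h2), Qt.qt_comm (inf_le_left.trans hP) (hY.trans hR),
    qt_inf_cent_eq (h1.trans hR) hP (h1.trans hRP) hN (cop_le hcop h1 le_rfl) (Or.inr hs),
    Qt.qt_comm (hY.trans hR) (hU.trans hR)]

end Cfsg.Agent.FH
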