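import Mathlib
import Cfsg.Agent.FH.Quot

/-! Turull's theorem: the Fitting height of `G` exceeds that of `C_G(α)` by at most two. -/

set_option autoImplicit false

namespace Cfsg.Agent.FH
open Cfsg.Agent.FT Cfsg.Agent.PLocal.CommMod Subgroup
open scoped commutatorElement

universe u

variable {G : Type u} [Group G] [Finite G]

/-- The kernel for the pair of levels `k`, `k + 1`. -/
abbrev kN (T : ℕ → Subgroup G) (k : ℕ) : Subgroup G := kq (T k) (fN T k) (T (k + 1))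

/-- An operator as an element of the group acting on level `k`. -/
abbrev aU {A : Subgroup G} (T : ℕ → Subgroup G) (k : ℕ) {α : G} (h : α ∈ A) : up A T k :=
  ⟨α, mem_sup_left h⟩

/-- The inductive invariant. -/
def Inv (K : Subgroup G) (T : ℕ → Subgroup G) (α : G) (k e : ℕ) : Prop :=
  ∃ Y U : Subgroup G, Y ≤ T (k + 1) ∧ U ≤ T (k + 1) ∧ α ∈ 𝒩(Y) ∧ U ≤ 𝒩(Y) ∧ Y ≤ ⁅Y, zpowers α⁆ ∧
    U ≤ 𝒞[α] ∧ U ≤ resN e (K ⊓ 𝒞[α]) ∧ ¬ Zs (T k) Y U α ≤ fN T k

namespace MT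

variable {K A : Subgroup G} {h k : ℕ} {p : ℕ → ℕ} {T : ℕ → Subgroup G} (t : MT K A h p T)
include t

theorem kN_le_up (k : ℕ) : kN T k ≤ up A T k :=
  sup_le ((F_le T k).trans (le_up A T le_rfl)) (inf_le_left.trans (le_up A T k.le_succ))

theorem kN_le (k : ℕ) : kN T k ≤ K :=
  sup_le ((F_le T k).trans (t.le k)) (inf_le_left.trans (t.le _))

theorem normal (hk : k ≤ h) : ((kN T k).subgroupOf (up A T k)).Normal := by
  have s := t.sec hk
  refine NormIn.normal ⟨t.kN_le_up k, sup_le (s.norm_kq le_sup_left (t.inv _))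
    (iSup₂_le fun m hm => ?_)⟩
  rcases hm.eq_or_lt with rfl | hm
  · exact s.norm_kq' (le_up A T k.le_succ)
  · exact s.norm_kq (le_up A T hm.le) (t.norm _ _ hm)

theorem C_le_kN (hk : k < h) : cN T ⊥ (k + 1) ≤ kN T k := (t.faith hk).ge.trans le_sup_right

theorem ne_bot (hk : k ≤ h) : T k ≠ ⊥ := fun e => t.nle hk (e.le.trans bot_le)

section
variable [((kN T k).subgroupOf (up A T k)).Normal]

theorem bot_iff (hk : k < h) {X : Subgroup G} (hX : X ≤ T k) :
    qt (up A T k) (kN T k) X = ⊥ ↔ X ≤ fN T k :=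
  (t.sec hk.le).qt_eq_bot (t.prime _) (t.ne k hk) (t.pgrp _) (le_up A T k.le_succ)
    (le_up A T le_rfl) hX

theorem hon (hk : k < h) : Hon (p k) (p (k + 1)) (qt (up A T k) (kN T k) (T k))
    (qt (up A T k) (kN T k) (T (k + 1))) :=
  (t.sec hk.le).hon (t.prime _) (t.ne k hk) (t.pgrp _) (le_up A T k.le_succ) (le_up A T le_rfl)
    (le_up A T k.le_succ)

theorem le_der_iff (hk : k < h) {X : Subgroup G} (hX : X ≤ T (k + 1)) :
    qt (up A T k) (kN T k) X ≤ ⁅qt (up A T k) (kN T k) (T (k + 1)),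
      qt (up A T k) (kN T k) (T (k + 1))⁆ ↔ X ≤ fN T (k + 1) := by
  have h1 := le_up A T k.le_succ
  have h2 := (der_le _).trans h1
  rw [← Qt.qt_comm h1 h1, Qt.le_iff (t.kN_le_up k) (hX.trans h1) h2]
  refine ⟨fun h3 => (le_inf (h3.trans (sup_comm _ _).le) hX).trans ((sup_inf_modular (Or.inr
    (h2.trans (normIn_iff.mpr ⟨t.kN_le_up k, ‹_›⟩).norm)) (der_le _)).le.trans (sup_le_sup_left
      ((le_inf inf_le_right (inf_le_left.trans (t.sec hk.le).kq_le)).trans (t.faith hk).le) _)),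
    fun h3 => h3.trans (sup_le le_sup_right ((t.C_le_kN hk).trans le_sup_left))⟩

theorem bot_iff' (hk : k < h) {X : Subgroup G} (hX : X ≤ T (k + 1)) :
    qt (up A T k) (kN T k) X = ⊥ ↔ X ≤ cN T ⊥ (k + 1) := by
  rw [(t.sec hk.le).qt_eq_bot' (le_up A T k.le_succ) hX, ← t.faith hk, le_inf_iff, and_iff_right hX]

end

variable (hcop : (Nat.card A).Coprime (Nat.card K)) {α : G} (hα : α ∈ A)
  (hr : (Nat.card (zpowers α)).Prime)
include hcop hα

theorem copα {X : Subgroup G} (hX : X ≤ K) : (Nat.card (zpowers α)).Coprime (Nat.card X) :=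
  cop_le hcop (zpowers_le.mpr hα) hX

theorem zs_le (hk : k < h) {Y U : Subgroup G} {e : ℕ} (hY : Y ≤ T (k + 1)) (hU : U ≤ T (k + 1))
    (hUY : U ≤ 𝒩(Y)) (hUα : U ≤ 𝒞[α]) (hUe : U ≤ resN e (K ⊓ 𝒞[α])) :
    Zs (T k) Y U α ≤ T k ∧ Zs (T k) Y U α ≤ 𝒞[α] ∧ Zs (T k) Y U α ≤ resN (e + 1) (K ⊓ 𝒞[α]) := by
  have h0 := t.norm k _ k.le_succ
  have h1 : ⁅T k ⊓ 𝒞(⁅Y, U⁆), Y⁆ ⊓ 𝒞[α] ≤ T k := inf_le_left.trans
    ((commutator_mono inf_le_left le_rfl).trans (comm_le_left (hY.trans h0)))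
  have h2 := norm_inf (norm_comm (norm_inf (hU.trans h0)
    (norm_cent (Solv.le_normalizer_commutator_right Y U))) hUY) (norm_cent1 hUα)
  exact ⟨(comm_le_left h2).trans h1, (comm_le_left h2).trans inf_le_right,
    comm_le_resN_succ (le_inf (h1.trans (t.le k)) inf_le_right) hUe h2 (cop_le (t.cop hk) hU h1)
      (isSolvable_of_le h1 (t.solv k))⟩

theorem inv_of_next [((kN T k).subgroupOf (up A T k)).Normal] (hk : k < h) {U : Subgroup G} {e : ℕ}
    (hU : U ≤ T (k + 1)) (hUα : U ≤ 𝒞[α]) (hUe : U ≤ resN e (K ⊓ 𝒞[α]))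
    (hn : Next (qt (up A T k) (kN T k) (T k)) (qt (up A T k) (kN T k) (T (k + 1)))
      (qt (up A T k) (kN T k) U) (aU T k hα)) : Inv K T α k e := by
  have h1 := le_up A T k.le_succ
  have key : ∀ X ≤ T (k + 1), T (k + 1) ≤ 𝒩(X) → α ∈ 𝒩(X) → Zs (qt (up A T k) (kN T k) (T k))
      (qt (up A T k) (kN T k) ⁅X, zpowers α⁆) (qt (up A T k) (kN T k) U)
        (aU T k hα) ≠ ⊥ → Inv K T α k e := fun X hX hn hαX hz => by
    have h2 := comm_le_left (zpowers_le.mpr hαX)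
    have h3 := Solv.le_normalizer_commutator_right X _ (mem_zpowers α)
    refine ⟨_, U, h2.trans hX, hU, h3, norm_comm (hU.trans hn) (norm_zp hUα),
      comm_comm_eq (zpowers_le.mpr hαX) (t.copα hcop hα (hX.trans (t.le _))) (Or.inl (solv_cyc α)),
      hUα, hUe, fun hle => hz ?_⟩
    rw [← qt_Zs (aU T k hα) (le_up A T le_rfl) h1 (t.kN_le_up k) (h2.trans hX) hU (t.norm k _ k.le_succ)
      (t.cop hk) (t.solv k) (t.inv k hα) h3 hUα (t.copα hcop hα (t.le k))]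
    exact Qt.eq_bot_of_le (hle.trans le_sup_left)
  rcases hn with hn | hn
  · exact key _ le_rfl (le_norm_self _) (t.inv _ hα) (by rwa [qt_comm1 (aU T k hα) h1])
  · exact key _ (der_le _) (norm_der (le_norm_self _)) (norm_der (t.inv _) hα)
      (by rwa [qt_comm1 (aU T k hα) ((der_le _).trans h1), Qt.qt_comm h1 h1])

include hr

theorem rne (hk : k ≤ h) : Nat.card (zpowers α) ≠ p k := fun e => t.ne_bot hk
  (pgroup_eq_bot (t.prime k) (t.pgrp k) le_rfl
    (e ▸ hr.coprime_iff_not_dvd.mp (t.copα hcop hα (t.le k))))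

theorem tri [((kN T k).subgroupOf (up A T k)).Normal] (hk : k + 1 < h) :
    Tri (p k) (p (k + 1)) (p (k + 2)) (qt (up A T k) (kN T k) (T k))
      (qt (up A T k) (kN T k) (T (k + 1))) (qt (up A T k) (kN T k) (T (k + 2)))
      (aU T k hα) := by
  have hk' : k < h := by omega
  have h1 := le_up A T k.le_succ
  have h2 : T (k + 2) ≤ up A T k := le_up A T (by omega)
  have hd := (der_le _).trans h1
  have e := qt_card1 (N := kN T k) (aU T k hα) (t.copα hcop hα (t.kN_le k))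
  refine { t.hon hk' with
    hq := t.prime _, qp := (t.ne _ hk).symm, hr := e ▸ hr, rl := e ▸ t.rne hcop hα hr hk'.le
    rp := e ▸ t.rne hcop hα hr hk', rq := e ▸ t.rne hcop hα hr hk, αM := qt_norm1 _ (t.inv _ hα)
    αP := qt_norm1 _ (t.inv _ hα), αR := qt_norm1 _ (t.inv _ hα), Rp := Qt.pgroup h2 (t.pgrp _)
    RM := Qt.norm (t.norm _ _ (by omega)), RP := Qt.norm (t.norm _ _ (by omega))
    cls := ?_, pow := fun y hy => ?_, Rc := ?_, Rcls := ?_ }
  · rw [← Qt.qt_comm h1 h1, Qt.le_cent_iff' hd h1, commutator_comm]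
    exact (t.comm_der hk').trans (t.C_le_kN hk')
  · obtain ⟨x, hx, rfl⟩ := Qt.mem_qt.mp hy
    have := (t.sec hk').pow x hx
    exact (t.le_der_iff hk' (zpowers_le.mpr (pow_mem hx _))).mpr (zpowers_le.mpr this)
      (Qt.mk_mem (x := x ^ p (k + 1)) (mem_zpowers _))
  · rw [← Qt.qt_comm h1 h1, Qt.le_cent_iff' hd h2]
    exact ((commutator_mono le_sup_left le_rfl).trans (t.comm_F hk')).trans (t.C_le_kN hk')
  · have h3 := (der_le _).trans h2
    rw [← Qt.qt_comm h2 h2, ← Qt.qt_comm h3 h2,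
      Qt.le_cent_iff' ((comm_le_sup _ _).trans (sup_le h3 h2)) h1, commutator_comm _ (T (k + 2))]
    exact ((commutator_mono ((t.comm_der hk).trans inf_le_right) le_rfl).trans
      (commutator_centMod_le _ _)).trans (t.C_le_kN hk')

theorem step {e : ℕ} (hk : k + 1 < h) (hi : Inv K T α (k + 1) e) : Inv K T α k (e + 1) := by
  obtain ⟨Y, U, h1, h2, h3, h4, h5, h6, h7, h8⟩ := hi
  have hk' : k < h := by omega
  have := t.normal hk'.le
  have hR : T (k + 2) ≤ up A T k := le_up A T (by omega)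
  obtain ⟨z1, z2, z3⟩ := t.zs_le hcop hα hk h1 h2 h4 h6 h7
  have e := qt_Zs (N := kN T k) (aU T k hα) (le_up A T k.le_succ) hR (t.kN_le_up k) h1 h2
    (t.norm _ _ (k + 1).le_succ) (t.cop hk) (t.solv _) (t.inv _ hα) h3 h6 (t.copα hcop hα (t.le _))
  refine t.inv_of_next hcop hα hk' z1 z2 z3 (e ▸ (t.tri hcop hα hr hk).step (Qt.mono h1)
    (qt_norm1 _ h3) (by rw [← qt_comm1 _ (h1.trans hR)]; exact Qt.mono h5) (Qt.mono h2) (Qt.norm h4)
    (qt_cent1 _ h6) ?_)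
  rwa [← e, t.le_der_iff hk' z1]

theorem finish {e : ℕ} (hk : k < h) (hi : Inv K T α k e) : resN (e + k + 1) (K ⊓ 𝒞[α]) ≠ ⊥ := by
  induction k generalizing e with
  | zero =>
    obtain ⟨Y, U, h1, h2, -, h4, -, h6, h7, h8⟩ := hi
    exact fun e => h8 (((t.zs_le hcop hα hk h1 h2 h4 h6 h7).2.2.trans e.le).trans bot_le)
  | succ k ih =>
    rw [show e + (k + 1) + 1 = e + 1 + k + 1 by omega]
    exact ih (by omega) (t.step hcop hα hr hk hi)

theorem start0 (hk : k + 2 ≤ h) (hn : ¬ ⁅T (k + 2), zpowers α⁆ ≤ fN T (k + 2))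
    (h2 : p (k + 2) ≠ 2 ∨ k + 2 = h) : Inv K T α k 0 := by
  have hk' : k < h := by omega
  have hA := zpowers_le.mpr (t.inv (k + 2) hα)
  set Y := ⁅T (k + 2), zpowers α⁆
  have hY : Y ≤ T (k + 2) := comm_le_left hA
  have hP : ⁅T (k + 1), Y⁆ ≤ T (k + 1) := comm_le_left (hY.trans (t.norm _ _ (k + 1).le_succ))
  have hαP : α ∈ 𝒩(⁅T (k + 1), Y⁆) := norm_comm (zpowers_le.mpr (t.inv _ hα))
    (Solv.le_normalizer_commutator_right _ _) (mem_zpowers α)
  have h3 : ¬ ⁅T (k + 1), Y⁆ ⊓ 𝒞[α] ≤ fN T (k + 1) := fun hle => by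
    have := t.normal (k := k + 1) hk'
    have H := t.hon (k := k + 1) hk
    have h1 := le_up A T (le_refl (k + 1))
    have hR := le_up A T (k + 1).le_succ
    have e := qt_card1 (N := kN T (k + 1)) (aU T (k + 1) hα) (t.copα hcop hα (t.kN_le _))
    rw [← t.bot_iff hk (inf_le_left.trans hP), qt_inf_cent1 (aU T (k + 1) hα) (hP.trans h1) hαP
      (t.kN_le_up _) (t.copα hcop hα (hP.trans (t.le _))), Qt.qt_comm h1 (hY.trans hR)] at hle
    have h4 := Qt.mono (L := up A T (k + 1)) (N := kN T (k + 1)) hY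
    refine hn (((t.bot_iff' hk hY).mp (H.eq_bot h4 (le_trans ?_ (hh_odd H.hl H.hp H.ne
      (elem_of_le H.elem (comm_le_left (h4.trans H.norm))) (H.pgrp.to_le h4) (h2.imp_right ?_)
      (e ▸ hr) (e ▸ t.rne hcop hα hr hk') (e ▸ t.rne hcop hα hr hk)
      (qt_norm1 _ (Solv.le_normalizer_commutator_right _ _ (mem_zpowers α)))
      (Solv.le_normalizer_commutator_right _ _)
      (Qt.qt_comm (N := kN T (k + 1)) h1 (hY.trans hR) ▸ qt_norm1 _ hαP) hle)))).trans le_sup_right)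
    · rw [← qt_comm1 _ (hY.trans hR)]
      exact Qt.mono (comm_comm_eq hA (t.copα hcop hα (t.le _)) (Or.inl (solv_cyc α)))
    · rintro rfl
      rw [abelian_iff_commutator_eq_bot, ← Qt.qt_comm (hY.trans hR) (hY.trans hR),
        t.bot_iff' hk ((der_le _).trans hY)]
      exact (der_mono hY).trans (le_sup_left.trans t.F_top)
  have := t.normal hk'.le
  have h1 := le_up A T k.le_succ
  have hR : T (k + 2) ≤ up A T k := le_up A T (by omega)
  have e := qt_inf_cent1 (N := kN T k) (aU T k hα) (hP.trans h1) hαP (t.kN_le_up _)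
    (t.copα hcop hα (hP.trans (t.le _)))
  rw [Qt.qt_comm h1 (hY.trans hR), qt_comm1 (aU T k hα) hR] at e
  refine t.inv_of_next hcop hα hk' (inf_le_left.trans hP) inf_le_right
    (inf_le_inf_right _ (hP.trans (t.le _))) (e ▸ (t.tri hcop hα hr hk).start0 ?_)
  rwa [← e, t.le_der_iff hk' (inf_le_left.trans hP)]

theorem startA {e : ℕ} (hk : k + 3 ≤ h) (h1 : T (k + 2) ≤ ⁅T (k + 2), zpowers α⁆)
    (h2 : T (k + 3) ≤ 𝒞[α]) (h3 : T (k + 3) ≤ resN e (K ⊓ 𝒞[α]))
    (hn : ¬ ⁅T (k + 1) ⊓ 𝒞[α], T (k + 3)⁆ ≤ fN T (k + 1)) : Inv K T α k e := by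
  have hk' : k < h := by omega
  have := t.normal hk'.le
  have hP := le_up A T k.le_succ
  have hR : T (k + 2) ≤ up A T k := le_up A T (by omega)
  have hU : T (k + 3) ≤ up A T k := le_up A T (by omega)
  have h4 := comm_le_left (norm_inf (t.norm (k + 1) (k + 3) (by omega)) (norm_cent1 h2))
  have e := Qt.qt_comm (N := kN T k) (inf_le_left.trans hP : T (k + 1) ⊓ 𝒞[α] ≤ _) hU
  rw [qt_inf_cent1 (aU T k hα) hP (t.inv _ hα) (t.kN_le_up _) (t.copα hcop hα (t.le _))] at e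
  refine t.inv_of_next hcop hα hk' (h4.trans inf_le_left) (h4.trans inf_le_right)
    (comm_le_resN (inf_le_inf_right _ (t.le _)) h3) (e ▸ (t.tri hcop hα hr (by omega)).start2
      (by rw [← Qt.qt_comm hP hR]; exact Qt.mono (t.comm (by omega)))
      (by rw [← qt_comm1 _ hR]; exact Qt.mono h1) (Qt.norm (t.norm _ _ (by omega)))
      (Qt.norm (t.norm _ _ (by omega))) (Qt.norm (t.norm _ _ (by omega))) (qt_cent1 _ h2)
      (by rw [← Qt.qt_zpowers]
          exact Qt.coprime (zpowers_le.mpr (aU T k hα).2) hU (t.copα hcop hα (t.le _)))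
      (by rw [← Qt.qt_comm hR hU]; exact Qt.mono (t.comm (by omega))) ?_)
  rwa [← e, t.le_der_iff hk' (h4.trans inf_le_left)]

theorem na [((kN T k).subgroupOf (up A T k)).Normal] (hk : k + 2 ≤ h)
    (h1 : T (k + 1) ≤ ⁅T (k + 1), zpowers α⁆) (h2 : T (k + 2) ≤ 𝒞[α])
    (hn : ⁅T k ⊓ 𝒞[α], T (k + 2)⁆ ≤ fN T k) :
    NA (p k) (p (k + 1)) (p (k + 2)) (qt (up A T k) (kN T k) (T k))
      (qt (up A T k) (kN T k) (T (k + 1))) (qt (up A T k) (kN T k) (T (k + 2))) (aU T k hα) := by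
  have hM := le_up A T (le_refl k)
  have hP := le_up A T k.le_succ
  have hR : T (k + 2) ≤ up A T k := le_up A T (by omega)
  refine { t.tri hcop hα hr hk with
    Sα := qt_cent1 _ h2
    QS := by rw [← Qt.qt_comm hP hR]; exact Qt.mono (t.comm hk)
    Qα := by rw [← qt_comm1 _ hP]; exact Qt.mono h1
    fix := ?_
    ne_bot := fun e => t.nle (by omega) ((t.bot_iff' (by omega) le_rfl).mp e) }
  rw [← qt_inf_cent1 (aU T k hα) hM (t.inv _ hα) (t.kN_le_up _) (t.copα hcop hα (t.le _)),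
    Qt.le_cent_iff' (inf_le_left.trans hM) hR]
  exact hn.trans le_sup_left

theorem startB {e : ℕ} (hk : k + 3 ≤ h) (h1 : T (k + 1) ≤ ⁅T (k + 1), zpowers α⁆)
    (h2 : T (k + 2) ≤ 𝒞[α]) (h3 : T (k + 3) ≤ 𝒞[α]) (h4 : T (k + 3) ≤ resN e (K ⊓ 𝒞[α]))
    (hn : ⁅T k ⊓ 𝒞[α], T (k + 2)⁆ ≤ fN T k) : Inv K T α k e := by
  have hk' : k < h := by omega
  have := t.normal hk'.le
  have s := t.na hcop hα hr (by omega) h1 h2 hn
  have hP := le_up A T k.le_succ
  have hU : T (k + 3) ≤ up A T k := le_up A T (by omega)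
  have h5 := comm_le_left (norm_inf (t.norm (k + 1) (k + 3) (by omega)) (norm_cent1 h3))
  have h6 := h5.trans inf_le_left
  have h7 := h5.trans inf_le_right
  refine ⟨_, _, le_rfl, h6, t.inv _ hα, h6.trans (le_norm_self _), h1, h7,
    comm_le_resN (inf_le_inf_right _ (t.le _)) h4, fun hle => ?_⟩
  have hz := Qt.eq_bot_of_le (L := up A T k) (N := kN T k) (hle.trans le_sup_left)
  rw [qt_Zs (aU T k hα) (le_up A T le_rfl) hP (t.kN_le_up k) le_rfl h6 (t.norm k _ k.le_succ)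
    (t.cop hk') (t.solv k) (t.inv k hα) (t.inv _ hα) h7 (t.copα hcop hα (t.le k))] at hz
  have e := Qt.qt_comm (N := kN T k) (inf_le_left.trans hP : T (k + 1) ⊓ 𝒞[α] ≤ _) hU
  rw [qt_inf_cent1 (aU T k hα) hP (t.inv _ hα) (t.kN_le_up _) (t.copα hcop hα (t.le _)),
    le_antisymm s.cent_le (le_inf (der_le _) s.der_le_cent)] at e
  have hn := Qt.norm (L := up A T k) (N := kN T k) (t.norm (k + 1) (k + 3) (by omega))
  refine s.not_le_cent (Qt.norm (t.norm _ (k + 3) (by omega))) hn (Qt.norm (t.norm _ _ (by omega)))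
    (by rw [← Qt.qt_comm (le_up A T (by omega)) hU]; exact Qt.mono (t.comm (k := k + 2) hk))
    (Qt.coprime hU (le_up A T (by omega)) (t.cop (k := k + 2) hk)) (comm_eq_bot_iff.mp ?_)
  rw [← e]
  exact s.toHon.zs_ne (fun e => s.qp (s.eq_two.trans e.symm)) s.hr s.rl s.rp s.αM s.αP s.Qα
    (Qt.mono h6) (le_cent_comm.mp (e ▸ (comm_le_left (norm_der hn)).trans s.cls)) (qt_cent1 _ h7) hz

omit hcop hα hr in
theorem le_resN {C : Subgroup G} (hc : ∀ m, k ≤ m → T m ≤ C) (d : ℕ) :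
    ∀ m, k ≤ m → m + d = h → T m ≤ resN d C := by
  induction d with
  | zero => exact fun m hm _ => hc m hm
  | succ d ih =>
    intro m hm e
    have hm' : m < h := by omega
    exact (t.comm hm').trans (comm_le_resN_succ (hc m hm) (ih _ (by omega) (by omega))
      (t.norm _ _ m.le_succ) (t.cop hm') (t.solv m))

end MT

/-- Turull's theorem. -/
theorem turull {K : Subgroup G} {α : G} {n : ℕ} (hs : Group.IsSolvable K)
    (hr : (Nat.card (zpowers α)).Prime) (hαK : α ∈ 𝒩(K))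
    (hcop : (Nat.card (zpowers α)).Coprime (Nat.card K)) (hC : resN n (K ⊓ 𝒞[α]) = ⊥) :
    resN (n + 2) K = ⊥ := by
  classical
  by_contra hne
  obtain ⟨p, T, t⟩ := exists_mt hs (zpowers_le.mpr hαK) hcop hne
  have hα := mem_zpowers α
  have hc : ∀ k, (∀ m, k ≤ m → m ≤ n + 2 → ⁅T m, zpowers α⁆ ≤ fN T m) → ∀ m, k ≤ m → T m ≤ 𝒞[α] :=
    fun k h => cent_zpowers α ▸ t.le_cent le_rfl (le_norm_self _) hcop k h
  have hres := fun k h => t.le_resN (k := k) (C := K ⊓ 𝒞[α]) fun m hm => le_inf (t.le m) (hc k h m hm)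
  by_cases hex : ∃ m, 2 ≤ m ∧ m ≤ n + 2 ∧ ¬ ⁅T m, zpowers α⁆ ≤ fN T m
  swap
  · push Not at hex
    exact t.ne_bot (k := 2) (by omega) (eq_bot_iff.mpr (hC ▸ hres 2 hex n 2 le_rfl (by omega)))
  obtain ⟨m, ⟨m1, m2, m3⟩, hmax⟩ := exists_maximal_of_wellFoundedGT
    (fun m : Fin (n + 3) => 2 ≤ (m : ℕ) ∧ (m : ℕ) ≤ n + 2 ∧ ¬ ⁅T m, zpowers α⁆ ≤ fN T m)
    (hex.elim fun m hm => ⟨⟨m, by omega⟩, hm⟩)
  have hup : ∀ i : ℕ, (m : ℕ) + 1 ≤ i → i ≤ n + 2 → ⁅T i, zpowers α⁆ ≤ fN T i := fun i h1 h2 => by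
    by_contra h3
    have := hmax (y := ⟨i, by omega⟩) ⟨by simp; omega, h2, h3⟩ (Fin.le_def.mpr (by simp; omega))
    rw [Fin.le_def] at this
    simp at this; omega
  obtain ⟨k, hk⟩ : ∃ k, (m : ℕ) = k + 2 := ⟨m - 2, by omega⟩
  rw [hk] at m2 m3 hup
  have fin : ∀ k e, k < n + 2 → Inv K T α k e → n ≤ e + k + 1 → False := fun k e h1 h2 h3 =>
    t.finish hcop hα hr h1 h2 (eq_bot_iff.mpr ((resN_anti _ h3).trans hC.le))
  rcases m2.eq_or_lt with e | m2
  · exact fin k 0 (by omega) (t.start0 hcop hα hr e.le m3 (Or.inr e)) (by omega)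
  have h1 := hc _ hup
  have h2 := t.le_comm le_rfl (le_norm_self _) m2.le (fun i hi => cent_zpowers α ▸ h1 i hi) m3
  by_cases hA : ⁅T (k + 1) ⊓ 𝒞[α], T (k + 3)⁆ ≤ fN T (k + 1)
  swap
  · exact fin k (n - 1 - k) (by omega) (t.startA hcop hα hr m2 h2 (h1 _ le_rfl)
      (hres _ hup _ _ le_rfl (by omega)) hA) (by omega)
  by_cases h4 : k + 4 ≤ n + 2
  · exact fin (k + 1) (n - 2 - k) (by omega) (t.startB hcop hα hr h4 h2 (h1 _ le_rfl)
      (h1 _ (by omega)) (hres _ hup _ _ (by omega) (by omega)) hA) (by omega)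
  · have := t.normal (k := k + 1) (by omega)
    have s := t.na hcop hα hr m2 h2 (h1 _ le_rfl) hA
    exact fin k 0 (by omega) (t.start0 hcop hα hr m2.le m3
      (Or.inl fun e => s.qp (s.eq_two.trans e.symm))) (by omega)

theorem gross (n : ℕ) : ∀ {G : Type u} [Group G] [Finite G] {K : Subgroup G} {α : G},
    Group.IsSolvable K → α ^ 2 ^ (n + 2) = 1 → α ∈ 𝒩(K) → ¬ 2 ∣ Nat.card K → K ⊓ 𝒞[α] = ⊥ →
    resN (2 * n + 2) K = ⊥ := by
  induction n with
  | zero =>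
    intro G _ _ K α hs h hαK hpK hC
    exact eq_bot_iff.mpr ((res_mono (res_le_der K)).trans (res_der_of_four hs h hαK hpK hC).le)
  | succ n ih =>
    intro G _ _ K α hs h hαK hpK hC
    by_cases h1 : α ^ 2 ^ (n + 2) = 1
    · exact eq_bot_iff.mpr ((resN_anti K (by omega)).trans (ih hs h1 hαK hpK hC).le)
    have := Fact.mk Nat.prime_two
    set τ := α ^ 2 ^ (n + 2)
    have ho : Nat.card (zpowers τ) = 2 := by
      rw [Nat.card_zpowers]
      exact orderOf_eq_prime (by rw [← pow_mul, ← pow_succ, h]) h1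
    have hc := Nat.prime_two.coprime_iff_not_dvd.mpr hpK
    have hA := zpowers_le.mpr hαK
    refine turull (n := 2 * n + 2) hs (by rw [ho]; exact Nat.prime_two) (hA (npow_mem_zpowers α _))
      (by rw [ho]; exact hc) ?_
    obtain ⟨H, _, _, K', β, a1, a2, a3, a4, a5, a6, -⟩ := exists_quot (K := K ⊓ 𝒞[τ])
      (m := 2 ^ (n + 2)) (isSolvable_of_le inf_le_left hs)
      (norm_inf hA (norm_cent1 (zpowers_le.mpr (cent1_le_cent1_pow α _ (mem_cent1_self α))))
        (mem_zpowers α))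
      (by rw [Nat.card_zpowers, orderOf_eq_prime_pow h1 h]
          exact (hc.pow_left _).coprime_dvd_right (card_dvd_of_le inf_le_left))
      (eq_bot_iff.mpr ((inf_le_inf_right _ inf_le_left).trans hC.le))
    exact eq_bot_iff.mpr ((a6 _ (ih a1 a2 a3
      (fun hd => hpK ((hd.trans a4).trans (card_dvd_of_le inf_le_left))) a5)).trans
        (comm_eq_bot_iff.mpr (inf_le_right.trans (cent_zpowers τ).ge)).le)

end Cfsg.Agent.FH
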