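import Mathlib
import Cfsg.Agent.FH.Turull
import Cfsg.Agent.FT.BG3_7

/-! Ward's theorem on fixed point free elementary abelian groups of order `p ^ 2`. -/

set_option autoImplicit false

namespace Cfsg.Agent.FH
open Cfsg.Agent.FT Cfsg.Agent.PLocal.CommMod Subgroup
open scoped commutatorElement

universe u

variable {G : Type u} [Group G] [Finite G]

theorem res_cent_eq_bot {K : Subgroup G} {a b : G} (ha : (Nat.card (zpowers a)).Prime)
    (haK : a ∈ 𝒩(K)) (hab : a ∈ 𝒩(zpowers b)) (hC : K ⊓ 𝒞(zpowers b ⊔ zpowers a) = ⊥) :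
    res (K ⊓ 𝒞[b]) = ⊥ := by
  rw [← cent_zpowers]
  exact res_eq_bot_iff.mpr (bg3_7 (norm_inf (zpowers_le.mpr haK) (norm_cent (zpowers_le.mpr hab))) ha
    (by rwa [inf_assoc, ← cent_sup]))

theorem MT.top_le {K A : Subgroup G} {p : ℕ → ℕ} {T : ℕ → Subgroup G} (t : MT K A 2 p T)
    (hcop : (Nat.card A).Coprime (Nat.card K)) {α : G} (hα : α ∈ A)
    (hr : (Nat.card (zpowers α)).Prime) (h : res (K ⊓ 𝒞[α]) = ⊥) : ⁅T 2, zpowers α⁆ ≤ fN T 2 := by
  by_contra hn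
  exact t.finish hcop hα hr two_pos (t.start0 hcop hα hr le_rfl hn (Or.inr rfl)) h

theorem ward {K A : Subgroup G} {p : ℕ} (hp : p.Prime) (hs : Group.IsSolvable K)
    (hA : IsElementaryAbelian p A) (hcard : Nat.card A = p ^ 2) (hAK : A ≤ 𝒩(K))
    (hpK : ¬ p ∣ Nat.card K) (hC : K ⊓ 𝒞(A) = ⊥) : resN 2 K = ⊥ := by
  have := Fact.mk hp
  by_contra hne
  have hcop : (Nat.card A).Coprime (Nat.card K) :=
    hcard ▸ (hp.coprime_iff_not_dvd.mpr hpK).pow_left 2
  obtain ⟨q, T, t⟩ := exists_mt hs hAK hcop hne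
  have hF := le_sup_left.trans (t.upF 2)
  refine t.ne_bot le_rfl (eq_bot_iff.mpr ((le_inf (t.le 2) (t.le_cent le_rfl (le_norm_self A) hcop 2
    (fun m h1 h2 => ?_) 2 le_rfl)).trans hC.le))
  obtain rfl : m = 2 := by omega
  refine (le_centMod' hF).mp fun b hb => (le_centMod' ((zpowers_le.mpr hb).trans hF)).mpr ?_
    (mem_zpowers b)
  by_cases h1 : b = 1
  · rw [h1, zpowers_one_eq_bot, commutator_bot_right]; exact bot_le
  have ho : ∀ a ∈ A, a ≠ 1 → Nat.card (zpowers a) = p := fun a ha h => by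
    rw [Nat.card_zpowers, orderOf_eq_prime (hA.2 a ha) h]
  have hb' := ho b hb h1
  obtain ⟨a, ha, hab⟩ : ∃ a ∈ A, a ∉ zpowers b := SetLike.not_le_iff_exists.mp fun h => by
    have := card_le_of_le h
    have := hp.one_lt
    rw [hcard, hb'] at *
    nlinarith
  have ha' := ho a ha fun e => hab (e ▸ one_mem _)
  have hle : zpowers b ⊔ zpowers a ≤ A := sup_le (zpowers_le.mpr hb) (zpowers_le.mpr ha)
  refine t.top_le hcop hb (hb' ▸ hp) (res_cent_eq_bot (ha' ▸ hp) (hAK ha)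
    (le_norm_of_abelian (zpowers_le.mpr hb) hA.1 ha) ?_)
  rw [eq_of_le_of_card_ge hle ?_, hC]
  obtain ⟨i, hi, e⟩ := (Nat.dvd_prime_pow hp).mp (hcard ▸ card_dvd_of_le hle)
  rw [hcard, e]
  refine Nat.pow_le_pow_right hp.pos (le_of_not_gt fun h => hab ?_)
  rw [eq_of_le_of_card_ge (le_sup_left : zpowers b ≤ zpowers b ⊔ zpowers a)
    (by rw [e, hb']; simpa using Nat.pow_le_pow_right hp.pos (show i ≤ 1 by omega))]
  exact mem_sup_right (mem_zpowers a)

end Cfsg.Agent.FH
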